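import Cfsg.Agent.Lib.Geometry.Basic
import Cfsg.Agent.Lib.Geometry.Quadratic

/-!
Radical elements of the point stabilisers of a symplectic space in characteristic two, inside a subgroup.
-/

set_option autoImplicit false
set_option linter.unusedSectionVars false

namespace CfsgLib.Geometry.SpTwoOver

open LinearMap (BilinForm)

variable {F V : Type*} [Field F] [AddCommGroup V] [Module F V] [CharP F 2]

theorem add_self (F : Type*) {V : Type*} [Field F] [AddCommGroup V] [Module F V] [CharP F 2] (v : V) : v + v = 0 := by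
  rw [← two_smul F v, CharTwo.two_eq_zero, zero_smul]

theorem symm' {B : BilinForm F V} (h : B.IsAlt) (x y : V) : B x y = B y x := by
  rw [← LinearMap.BilinForm.IsAlt.neg_eq h y x, CharTwo.neg_eq]

variable (B : BilinForm F V) (L : Subgroup (V ≃ₗ[F] V))

/-- The radical element of the point `p` with parameters `w, k` lies in the group. -/
def El (p w : V) (k : F) : Prop :=
  ∃ g ∈ L, ∀ x, g x = x + B x p • w + (B x w + k * B x p) • p

/-- Every element of the radical modulo transvections is represented at `p`. -/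
def Pt (p : V) : Prop := ∀ w, B w p = 0 → ∃ k, El B L p w k

/-- A transvection at `p`. -/
def Tr (p : V) : Prop := ∃ k, k ≠ 0 ∧ El B L p 0 k

/-- All transvections at `p`. -/
def Full (p : V) : Prop := ∀ k, El B L p 0 k

/-- An element fixing `p` and `r` and moving along their span by a symmetric matrix. -/
def Sig (p r : V) (α s β : F) : Prop :=
  ∃ g ∈ L, ∀ x, g x = x + (α * B x p + s * B x r) • p + (s * B x p + β * B x r) • r

/-- The orbit of `a`, up to scalars. -/
def On (a p : V) : Prop := ∃ g ∈ L, ∃ c : F, c ≠ 0 ∧ p = c • g a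

variable {B L}

theorem El.smul_pt {p w : V} {k c : F} (hc : c ≠ 0) (h : El B L p w k) :
    El B L (c • p) (c⁻¹ • w) (k / (c * c)) := by
  obtain ⟨g, hg, e⟩ := h
  refine ⟨g, hg, fun x => ?_⟩
  rw [e]
  simp only [map_smul, smul_eq_mul, smul_smul]
  match_scalars <;> field_simp

theorem El.add_pt {p w : V} {k : F} (h : El B L p w k) (s : F) : El B L p (w + s • p) k := by
  obtain ⟨g, hg, e⟩ := h
  refine ⟨g, hg, fun x => ?_⟩
  rw [e, map_add, map_smul, smul_eq_mul]
  have h2 := CharTwo.two_eq_zero (R := F)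
  match_scalars <;> first | ring1 | linear_combination (s * B x p) * h2 | linear_combination (-(s * B x p)) * h2

theorem El.zero_zero (L : Subgroup (V ≃ₗ[F] V)) (w : V) : El B L (0 : V) 0 0 := ⟨1, one_mem L, fun x => by simp⟩

variable (B L) in
/-- The standing hypotheses. -/
structure Orb (a : V) : Prop where
  alt : B.IsAlt
  nd : B.Nondegenerate
  pres : ∀ g ∈ L, ∀ x y, B (g x) (g y) = B x y
  ne : a ≠ 0
  pt : Pt B L a
  irr : ∀ W : Submodule F V, (∀ g ∈ L, ∀ w ∈ W, g w ∈ W) → W = ⊥ ∨ W = ⊤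

theorem El.mul (hB : B.IsAlt) {p w w' : V} {k k' : F} (hw : B w p = 0) (hw' : B w' p = 0) (h : El B L p w k)
    (h' : El B L p w' k') : El B L p (w + w') (k + k' + B w w') := by
  obtain ⟨g, hg, e⟩ := h
  obtain ⟨g', hg', e'⟩ := h'
  refine ⟨g * g', mul_mem hg hg', fun x => ?_⟩
  show g (g' x) = _
  rw [e, e']
  simp only [map_add, map_smul, LinearMap.add_apply, LinearMap.smul_apply, smul_eq_mul, hw', hB p,
    symm' hB p w, hw, symm' hB w' w]
  match_scalars <;> ring

theorem El.conj (hp : ∀ g ∈ L, ∀ x y, B (g x) (g y) = B x y) {g : V ≃ₗ[F] V} (hg : g ∈ L) {p w : V} {k : F}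
    (h : El B L p w k) : El B L (g p) (g w) k := by
  obtain ⟨u, hu, e⟩ := h
  refine ⟨g * u * g⁻¹, mul_mem (mul_mem hg hu) (inv_mem hg), fun x => ?_⟩
  obtain ⟨y, rfl⟩ := g.surjective x
  show g (u (g.symm (g y))) = _
  rw [g.symm_apply_apply, e, map_add, map_add, map_smul, map_smul, hp g hg, hp g hg]

theorem Sig.of_el {p r : V} {s k : F} (h : El B L p (s • r) k) : Sig B L p r k s 0 := by
  obtain ⟨g, hg, e⟩ := h
  refine ⟨g, hg, fun x => ?_⟩
  rw [e, map_smul, smul_eq_mul]
  module

theorem Sig.swap {p r : V} {α s β : F} (h : Sig B L p r α s β) : Sig B L r p β s α := by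
  obtain ⟨g, hg, e⟩ := h
  refine ⟨g, hg, fun x => ?_⟩
  rw [e]
  module

theorem Sig.el {p r : V} {α : F} (h : Sig B L p r α 0 0) : El B L p 0 α := by
  obtain ⟨g, hg, e⟩ := h
  refine ⟨g, hg, fun x => ?_⟩
  rw [e, map_zero]
  module

theorem Sig.add (hB : B.IsAlt) {p r : V} (hpr : B p r = 0) {α s β α' s' β' : F} (h : Sig B L p r α s β)
    (h' : Sig B L p r α' s' β') : Sig B L p r (α + α') (s + s') (β + β') := by
  obtain ⟨g, hg, e⟩ := h
  obtain ⟨g', hg', e'⟩ := h'
  refine ⟨g * g', mul_mem hg hg', fun x => ?_⟩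
  show g (g' x) = _
  rw [e, e']
  simp only [map_add, map_smul, LinearMap.add_apply, LinearMap.smul_apply, smul_eq_mul, hB p, hB r, hpr,
    symm' hB r p]
  match_scalars <;> ring

theorem Sig.conj (hp : ∀ g ∈ L, ∀ x y, B (g x) (g y) = B x y) {g : V ≃ₗ[F] V} (hg : g ∈ L) {p r : V} {α s β : F}
    (h : Sig B L p r α s β) : Sig B L (g p) (g r) α s β := by
  obtain ⟨u, hu, e⟩ := h
  refine ⟨g * u * g⁻¹, mul_mem (mul_mem hg hu) (inv_mem hg), fun x => ?_⟩
  obtain ⟨y, rfl⟩ := g.surjective x
  show g (u (g.symm (g y))) = _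
  rw [g.symm_apply_apply, e, map_add, map_add, map_smul, map_smul, hp g hg, hp g hg]

theorem Sig.smul_pts {p r : V} {α s β : F} (h : Sig B L p r α s β) {c d : F} (hc : c ≠ 0) (hd : d ≠ 0) :
    Sig B L (c • p) (d • r) (α / (c * c)) (s / (c * d)) (β / (d * d)) := by
  obtain ⟨g, hg, e⟩ := h
  refine ⟨g, hg, fun x => ?_⟩
  rw [e]
  simp only [map_smul, smul_eq_mul, smul_smul]
  match_scalars <;> field_simp

theorem On.refl (a : V) : On L a a := ⟨1, one_mem L, 1, one_ne_zero, by simp⟩

theorem On.smul {a p : V} (h : On L a p) {c : F} (hc : c ≠ 0) : On L a (c • p) := by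
  obtain ⟨g, hg, d, hd, rfl⟩ := h
  exact ⟨g, hg, c * d, mul_ne_zero hc hd, by rw [smul_smul]⟩

theorem On.map {a p : V} (h : On L a p) {g : V ≃ₗ[F] V} (hg : g ∈ L) : On L a (g p) := by
  obtain ⟨h', hh, d, hd, rfl⟩ := h
  exact ⟨g * h', mul_mem hg hh, d, hd, by rw [map_smul]; rfl⟩

theorem On.symm {a p : V} (h : On L a p) : On L p a := by
  obtain ⟨g, hg, d, hd, rfl⟩ := h
  exact ⟨g⁻¹, inv_mem hg, d⁻¹, inv_ne_zero hd, by
    rw [map_smul, smul_smul, inv_mul_cancel₀ hd, one_smul]; exact (g.symm_apply_apply a).symm⟩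

theorem On.trans {a p r : V} (h : On L a p) (h' : On L p r) : On L a r := by
  obtain ⟨g, hg, d, hd, rfl⟩ := h'
  exact (h.map hg).smul hd

theorem Full.smul {p : V} (h : Full B L p) {c : F} (hc : c ≠ 0) : Full B L (c • p) := fun k => by
  have := (h (k * (c * c))).smul_pt hc
  rwa [smul_zero, mul_div_cancel_right₀ _ (mul_ne_zero hc hc)] at this

theorem Tr.smul {p : V} (h : Tr B L p) {c : F} (hc : c ≠ 0) : Tr B L (c • p) := by
  obtain ⟨k, hk, he⟩ := h
  refine ⟨k / (c * c), div_ne_zero hk (mul_ne_zero hc hc), ?_⟩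
  simpa using he.smul_pt hc

variable {a : V} (H : Orb B L a)
include H

theorem Orb.B_symm (x y : V) : B x y = B y x := symm' H.alt x y

theorem Orb.ne' {p : V} (h : On L a p) : p ≠ 0 := by
  obtain ⟨g, -, d, hd, rfl⟩ := h
  exact smul_ne_zero hd fun e => H.ne (g.map_eq_zero_iff.1 e)

theorem Orb.base {p : V} (h : On L a p) : Orb B L p := by
  refine ⟨H.alt, H.nd, H.pres, H.ne' h, ?_, H.irr⟩
  obtain ⟨g, hg, d, hd, rfl⟩ := h
  intro w hw
  rw [map_smul, smul_eq_mul, mul_eq_zero] at hw
  have hw' := hw.resolve_left hd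
  obtain ⟨k, hk⟩ := H.pt (g.symm (d • w)) (by
    rw [← H.pres g hg, g.apply_symm_apply, map_smul, LinearMap.smul_apply, hw', smul_zero])
  have h2 := (hk.conj H.pres hg).smul_pt hd
  rw [g.apply_symm_apply, smul_smul, inv_mul_cancel₀ hd, one_smul] at h2
  exact ⟨_, h2⟩

theorem Orb.full_of_on {p : V} (hp : Full B L p) (h : On L a p) : Full B L a := by
  obtain ⟨g, hg, d, hd, e⟩ := h.symm
  intro k
  have h2 := ((hp (k * (d * d))).conj H.pres hg).smul_pt hd
  rwa [map_zero, smul_zero, ← e, mul_div_cancel_right₀ _ (mul_ne_zero hd hd)] at h2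

theorem Orb.exists_nonperp : ∃ b, On L a b ∧ B a b = 1 := by
  suffices ∃ g ∈ L, B a (g a) ≠ 0 by
    obtain ⟨g, hg, hne⟩ := this
    exact ⟨(B a (g a))⁻¹ • g a, ((On.refl a).map hg).smul (inv_ne_zero hne), by
      rw [map_smul, smul_eq_mul, inv_mul_cancel₀ hne]⟩
  by_contra hc
  push Not at hc
  let W : Submodule F V := ⨅ g : L, LinearMap.ker (B ((g : V ≃ₗ[F] V) a))
  have hmem : ∀ v, v ∈ W ↔ ∀ g ∈ L, B (g a) v = 0 := fun v => by
    simp [W, Submodule.mem_iInf]
  rcases H.irr W (fun g hg v hv => (hmem _).2 fun h hh => by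
    rw [show h a = g ((g⁻¹ * h) a) from (g.apply_symm_apply (h a)).symm, H.pres g hg]
    exact (hmem v).1 hv _ (mul_mem (inv_mem hg) hh)) with h0 | h0
  · refine H.ne ((Submodule.mem_bot F).1 (h0 ▸ (hmem a).2 fun g hg => ?_))
    rw [H.B_symm]
    exact hc g hg
  · refine H.ne (H.nd.1 a fun v => ?_)
    exact (hmem v).1 (h0 ▸ Submodule.mem_top) 1 (one_mem L)

/-- The radical element moves a point outside the perp onto any other. -/
theorem Orb.move {b w : V} {k : F} (hab : B a b = 1) (h : El B L a w k) (hb : On L a b) :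
    On L a (b + w + (B b w + k) • a) := by
  obtain ⟨g, hg, e⟩ := h
  have := hb.map hg
  rwa [e, H.B_symm b a, hab, one_smul, mul_one] at this

/-- Elements of the perp move points of the perp along the line through them. -/
theorem Orb.on_line [FiniteDimensional F V] {r : V} (hr : On L a r) (har : B r a = 0) (hn : r ∉ Submodule.span F {a})
    (s : F) : ∃ g ∈ L, g a = a ∧ g r = r + s • a := by
  obtain ⟨w, hw, hwr⟩ := exists_perp (σ := RingHom.id F) Function.surjective_id _ H.nd.1 (Submodule.span F {a}) hn s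
  have hwa : B w a = 0 := hw a (Submodule.mem_span_singleton_self a)
  obtain ⟨k, g, hg, e⟩ := H.pt w hwa
  refine ⟨g, hg, ?_, ?_⟩
  · rw [e, H.alt a, H.B_symm a w, hwa]; simp
  · rw [e, har, H.B_symm r w, hwr]; simp

/-- A torus element of a pair of perpendicular points. -/
theorem Orb.torus [FiniteDimensional F V] {r : V} (hr : On L a r) (har : B r a = 0) (hn : r ∉ Submodule.span F {a})
    {t : F} (ht : t ≠ 0) : ∃ g ∈ L, g a = t • a ∧ g r = t⁻¹ • r := by
  have hn' : a ∉ Submodule.span F {r} := fun hm => by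
    obtain ⟨c, hc⟩ := Submodule.mem_span_singleton.1 hm
    have hc0 : c ≠ 0 := fun e => H.ne (by rw [← hc, e, zero_smul])
    exact hn (Submodule.mem_span_singleton.2 ⟨c⁻¹, by rw [← hc, inv_smul_smul₀ hc0]⟩)
  have up : ∀ s, ∃ g ∈ L, g a = a ∧ g r = r + s • a := H.on_line hr har hn
  have dn : ∀ s, ∃ g ∈ L, g r = r ∧ g a = a + s • r :=
    fun s => (H.base hr).on_line hr.symm (by rw [H.B_symm, har]) hn' s
  have sw : ∀ t : F, t ≠ 0 → ∃ g ∈ L, g a = t⁻¹ • r ∧ g r = t • a := by
    intro t ht
    obtain ⟨e, he, ea, er⟩ := up t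
    obtain ⟨f, hf, fr, fa⟩ := dn t⁻¹
    refine ⟨e * f * e, mul_mem (mul_mem he hf) he, ?_, ?_⟩
    · show e (f (e a)) = _
      rw [ea, fa, map_add, map_smul, ea, er, smul_add, smul_smul, inv_mul_cancel₀ ht, one_smul]
      linear_combination (norm := module) add_self F a
    · show e (f (e r)) = _
      rw [er, map_add, map_smul, fr, fa, smul_add, smul_smul, mul_inv_cancel₀ ht, one_smul]
      rw [show r + (t • a + r) = t • a by linear_combination (norm := module) add_self F r, map_smul, ea]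
  obtain ⟨g, hg, ga, gr⟩ := sw t⁻¹ (inv_ne_zero ht)
  obtain ⟨g1, hg1, g1a, g1r⟩ := sw 1 one_ne_zero
  rw [inv_inv] at ga
  refine ⟨g1 * g, mul_mem hg1 hg, ?_, ?_⟩
  · show g1 (g a) = _
    rw [ga, map_smul, g1r, one_smul]
  · show g1 (g r) = _
    rw [gr, map_smul, g1a, inv_one, one_smul]

theorem exists_sq [Finite F] (x : F) : ∃ t : F, t * t = x := by
  obtain ⟨t, ht⟩ := (Finite.injective_iff_surjective.1 (frobenius_inj F 2)) x
  exact ⟨t, by rw [← ht, frobenius_def, sq]⟩

/-- With a perpendicular pair, one transvection gives all. -/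
theorem Orb.full_of_tr [FiniteDimensional F V] [Finite F] {r : V} (hr : On L a r) (har : B r a = 0)
    (hn : r ∉ Submodule.span F {a}) (h : Tr B L a) : Full B L a := by
  obtain ⟨k0, hk0, he⟩ := h
  intro k
  rcases eq_or_ne k 0 with rfl | hk
  · exact ⟨1, one_mem L, fun x => by simp⟩
  obtain ⟨t, ht⟩ := exists_sq H (k / k0)
  have ht0 : t ≠ 0 := fun e => div_ne_zero hk hk0 (by rw [← ht, e, zero_mul])
  obtain ⟨g, hg, ga, -⟩ := H.torus hr har hn ht0
  have h2 := ((he.conj H.pres hg).smul_pt (inv_ne_zero ht0))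
  rw [map_zero, smul_zero, ga, smul_smul, inv_mul_cancel₀ ht0, one_smul] at h2
  convert h2 using 1
  rw [show k0 / (t⁻¹ * t⁻¹) = k0 * (t * t) by field_simp, ht, mul_div_cancel₀ _ hk0]

/-- A perpendicular pair with a non-zero value gives a transvection, unless the space is small. -/
theorem Orb.tr_of_value [FiniteDimensional F V] {r : V} (hr : On L a r) (har : B r a = 0)
    (hn : r ∉ Submodule.span F {a}) (hsz : 6 ≤ Module.finrank F V ∨ ∃ t : F, t ≠ 0 ∧ t ≠ 1) {s k : F} (hk : k ≠ 0)
    (h : El B L a (s • r) k) : Tr B L a := by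
  have har' : B a r = 0 := by rw [H.B_symm, har]
  have h1 := Sig.of_el h
  rcases hsz with hdim | ⟨t, ht0, ht1⟩
  swap
  · obtain ⟨g, hg, ga, gr⟩ := H.torus hr har hn ht0
    have h2 := (h1.conj H.pres hg).smul_pts (c := t⁻¹) (d := t) (inv_ne_zero ht0) ht0
    rw [ga, gr, smul_smul, smul_smul, inv_mul_cancel₀ ht0, mul_inv_cancel₀ ht0, one_smul, one_smul,
      zero_div, div_one] at h2
    have h3 := h1.add H.alt har' h2
    rw [CharTwo.add_self_eq_zero, add_zero] at h3
    refine ⟨_, fun e => ?_, h3.el⟩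
    have h4 : (t - 1) * (t - 1) * k = 0 := by
      have e' : k + k * (t * t) = 0 := by
        rw [show k / (t⁻¹ * t⁻¹) = k * (t * t) by field_simp] at e
        exact e
      linear_combination e' - (t * k) * CharTwo.two_eq_zero (R := F)
    simp [hk, sub_ne_zero.2 ht1] at h4
  · set T := LinearMap.ker (B.flip a) ⊓ LinearMap.ker (B.flip r)
    obtain ⟨w1, hw1, hw1n⟩ : ∃ w1 ∈ T, w1 ∉ Submodule.span F ({a, r} : Set V) := by
      by_contra hc
      push Not at hc
      have h2 := Submodule.finrank_mono (show T ≤ Submodule.span F ({a, r} : Set V) from hc)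
      have h3 : Module.finrank F (Submodule.span F ({a, r} : Set V)) ≤ 2 := by
        classical
        refine le_trans (finrank_span_le_card ({a, r} : Set V)) ?_
        rw [Set.toFinset_insert, Set.toFinset_singleton]
        exact Finset.card_insert_le _ _
      have h4 := LinearMap.finrank_range_add_finrank_ker ((B.flip a).prod (B.flip r))
      rw [LinearMap.ker_prod] at h4
      have h5 := Submodule.finrank_le (LinearMap.range ((B.flip a).prod (B.flip r)))
      rw [Module.finrank_prod, Module.finrank_self] at h5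
      change _ + Module.finrank F T = _ at h4
      omega
    obtain ⟨w2, hw2, hw12⟩ := exists_perp (σ := RingHom.id F) Function.surjective_id _ H.nd.1
      (Submodule.span F ({a, r} : Set V)) hw1n s
    have hw2a : B w2 a = 0 := hw2 a (Submodule.subset_span (by simp))
    have hw2r : B w2 r = 0 := hw2 r (Submodule.subset_span (by simp))
    have hw1a : B w1 a = 0 := hw1.1
    have hw1r : B w1 r = 0 := hw1.2
    obtain ⟨k1, g, hg, eg⟩ := H.pt w1 hw1a
    obtain ⟨k2, g', hg', eg'⟩ := (H.base hr).pt w2 hw2r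
    have hS : Sig B L a r 0 s 0 := by
      refine ⟨(g' * g)⁻¹ * (g * g'), mul_mem (inv_mem (mul_mem hg' hg)) (mul_mem hg hg'), fun x => ?_⟩
      show (g' * g).symm (g (g' x)) = _
      rw [LinearEquiv.symm_apply_eq]
      show g (g' x) = g' (g _)
      simp only [eg, eg', map_add, map_smul, LinearMap.add_apply, LinearMap.smul_apply, smul_eq_mul,
        H.alt a, H.alt r, har', har, hw2a, hw2r, hw1a, hw1r, H.B_symm a w1, H.B_symm r w1, H.B_symm a w2,
        H.B_symm r w2, hw12, H.B_symm w1 w2]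
      have h2 := CharTwo.two_eq_zero (R := F)
      match_scalars
      all_goals first
        | ring1
        | linear_combination (-(s * B x a)) * h2
        | linear_combination (-(s * B x r)) * h2
        | linear_combination (s * B x a) * h2
        | linear_combination (s * B x r) * h2
    have h3 := h1.add H.alt har' hS
    rw [CharTwo.add_self_eq_zero, add_zero, add_zero] at h3
    exact ⟨k, hk, h3.el⟩

/-- All transvections at one orbit point give all transvections. -/
theorem Orb.full_all [FiniteDimensional F V] (h : Full B L a) (c : V) : Full B L c := by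
  rcases eq_or_ne c 0 with rfl | hc
  · exact fun k => ⟨1, one_mem L, fun x => by simp⟩
  have hall : ∀ {p : V}, On L a p → Full B L p := fun {p} hp => (H.base hp).full_of_on h hp.symm
  have go : ∀ {p : V}, On L a p → ∀ c, B p c = 1 → On L a c := by
    intro p hp c hpc
    have Hp := H.base hp
    obtain ⟨b, hb, hpb⟩ := Hp.exists_nonperp
    have hd : B (c + b) p = 0 := by
      rw [H.B_symm, map_add, hpc, hpb, CharTwo.add_self_eq_zero]
    obtain ⟨k, hk⟩ := Hp.pt _ hd
    have h2 := hk.mul H.alt hd (by simp) (hall hp (B b (c + b) + k))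
    rw [map_zero, add_zero, add_zero, add_left_comm, CharTwo.add_self_eq_zero, add_zero] at h2
    have h3 := hp.trans (Hp.move hpb h2 hb)
    rw [CharTwo.add_self_eq_zero, zero_smul, add_zero] at h3
    convert h3 using 1
    linear_combination (norm := module) -(add_self F b)
  suffices On L a c from hall this
  by_cases h1 : B a c = 0
  · by_cases h2 : c ∈ Submodule.span F {a}
    · obtain ⟨d, rfl⟩ := Submodule.mem_span_singleton.1 h2
      exact (On.refl a).smul fun e => hc (by rw [e, zero_smul])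
    obtain ⟨e, -, he1, he2⟩ := exists_perp₂ (σ := RingHom.id F) Function.surjective_id _ H.nd.1 ⊥
      (x := a) (y := c) (by simpa using H.ne) (by simpa using hc)
    rw [H.B_symm] at he1
    have he' : On L a ((B a e)⁻¹ • e) := go (On.refl a) _ (by rw [map_smul, smul_eq_mul, inv_mul_cancel₀ he1])
    have hne : B ((B a e)⁻¹ • e) c ≠ 0 := by
      rw [map_smul, LinearMap.smul_apply, smul_eq_mul]
      exact mul_ne_zero (inv_ne_zero he1) he2
    have := (go he' ((B ((B a e)⁻¹ • e) c)⁻¹ • c) (by rw [map_smul, smul_eq_mul, inv_mul_cancel₀ hne])).smul hne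
    rwa [smul_inv_smul₀ hne] at this
  · have := (go (On.refl a) ((B a c)⁻¹ • c) (by rw [map_smul, smul_eq_mul, inv_mul_cancel₀ h1])).smul h1
    rwa [smul_inv_smul₀ h1] at this

end CfsgLib.Geometry.SpTwoOver
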