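import Mathlib

/-!
An anisotropic function with non-degenerate bilinear polar takes every non-zero value.
-/

set_option autoImplicit false

namespace CfsgLib.Geometry.SpTwoOver

open Finset

theorem exists_value {F W : Type*} [Field F] [Finite F] [CharP F 2] [AddCommGroup W] [Module F W] [Finite W]
    (hd : 2 ≤ Module.finrank F W) (f : W →ₗ[F] W →ₗ[F] F) (hnd : ∀ x, x ≠ 0 → ∃ z, f x z ≠ 0) (Q : W → F)
    (hQ : ∀ x z, Q (x + z) = Q x + Q z + f x z) (haniso : ∀ x, Q x = 0 → x = 0) {δ : F} (hδ : δ ≠ 0) :
    ∃ x, Q x = δ := by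
  classical
  haveI := Fintype.ofFinite F
  haveI := Fintype.ofFinite W
  haveI : FiniteDimensional F W := Module.Finite.of_finite
  by_contra hc
  push Not at hc
  set q := Fintype.card F with hq
  set M := Fintype.card W with hM
  set K := q ^ (Module.finrank F W - 1) with hK
  have hMK : M = q * K := by
    rw [hM, Module.card_eq_pow_finrank (K := F), hK, ← pow_succ', Nat.sub_add_cancel (by omega)]
  have hq2 : 2 ≤ q := Fintype.one_lt_card
  have hKq : q ≤ K := by
    rw [hK]
    exact Nat.le_self_pow (by omega) q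
  have h0 : Q 0 = 0 := by
    have h := hQ 0 0
    rw [add_zero, map_zero, add_zero, CharTwo.add_self_eq_zero] at h
    exact h
  have hfib : ∀ x : W, x ≠ 0 → ∀ c : F, #{z : W | f x z = c} = K := by
    intro x hx c
    have hs : Function.Surjective (f x) := by
      obtain ⟨z, hz⟩ := hnd x hx
      exact fun d => ⟨(d / f x z) • z, by rw [map_smul, smul_eq_mul, div_mul_cancel₀ _ hz]⟩
    obtain ⟨z₀, hz₀⟩ := hs c
    have h1 : #{z : W | f x z = c} = Fintype.card (LinearMap.ker (f x)) := by
      rw [← Fintype.card_subtype]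
      exact Fintype.card_congr
        { toFun := fun z => ⟨z.1 - z₀, by rw [LinearMap.mem_ker, map_sub, z.2, hz₀, sub_self]⟩
          invFun := fun z => ⟨z.1 + z₀, by rw [map_add, LinearMap.mem_ker.1 z.2, zero_add, hz₀]⟩
          left_inv := fun z => Subtype.ext (sub_add_cancel _ _)
          right_inv := fun z => Subtype.ext (add_sub_cancel_right _ _) }
    rw [h1, Module.card_eq_pow_finrank (K := F)]
    have h2 := LinearMap.finrank_range_add_finrank_ker (f x)
    rw [LinearMap.range_eq_top.2 hs, finrank_top, Module.finrank_self] at h2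
    rw [hK]; congr 1; omega
  -- the number of pairs with equal values
  have hT : ∑ d : F, #{x : W | Q x = d} ^ 2 = M + (M - 1) * K := by
    have e1 : ∑ d : F, #{x : W | Q x = d} ^ 2 = #{p : W × W | Q p.1 = Q p.2} := by
      rw [card_eq_sum_card_fiberwise (f := fun p : W × W => Q p.1) (t := univ) fun _ _ => mem_univ _]
      refine sum_congr rfl fun d _ => ?_
      rw [sq, ← card_product]
      congr 1
      ext ⟨x, z⟩
      simp only [mem_product, mem_filter, mem_univ, true_and]
      constructor
      · rintro ⟨rfl, h⟩; exact ⟨h.symm, rfl⟩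
      · rintro ⟨h, rfl⟩; exact ⟨rfl, h.symm⟩
    have e2 : #{p : W × W | Q p.1 = Q p.2} = #{p : W × W | f p.1 p.2 = Q p.1} := by
      refine card_bij' (fun p _ => (p.1 - p.2, p.2)) (fun p _ => (p.1 + p.2, p.2)) ?_ ?_
        (fun p _ => by simp) (fun p _ => by simp)
      · intro p hp
        simp only [mem_filter, mem_univ, true_and] at hp ⊢
        have h := hQ (p.1 - p.2) p.2
        rw [sub_add_cancel, hp] at h
        linear_combination -h - Q (p.1 - p.2) * CharTwo.two_eq_zero (R := F)
      · intro p hp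
        simp only [mem_filter, mem_univ, true_and] at hp ⊢
        rw [hQ, hp]
        linear_combination Q p.1 * CharTwo.two_eq_zero (R := F)
    have e3 : #{p : W × W | f p.1 p.2 = Q p.1} = ∑ x : W, #{z : W | f x z = Q x} := by
      rw [card_eq_sum_card_fiberwise (f := fun p : W × W => p.1) (t := univ) fun _ _ => mem_univ _]
      refine sum_congr rfl fun x _ => card_bij' (fun p _ => p.2) (fun z _ => (x, z)) ?_ ?_ ?_ ?_
      · intro p hp
        simp only [mem_filter, mem_univ, true_and] at hp ⊢
        rw [← hp.2]; exact hp.1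
      · intro z hz; simpa using hz
      · intro p hp
        simp only [mem_filter, mem_univ, true_and] at hp
        rw [← hp.2]
      · intro z _; rfl
    rw [e1, e2, e3, ← add_sum_erase univ _ (mem_univ (0 : W))]
    congr 1
    · simp [h0, hM]
    · rw [sum_congr rfl fun x hx => hfib x (mem_erase.1 hx).1 (Q x), sum_const, card_erase_of_mem (mem_univ _),
        card_univ, smul_eq_mul, hM]
  have hN0 : #{x : W | Q x = 0} = 1 := by
    rw [card_eq_one]
    refine ⟨0, ext fun x => ?_⟩
    simp only [mem_filter, mem_univ, true_and, mem_singleton]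
    exact ⟨haniso x, fun e => e ▸ h0⟩
  have hNd : #{x : W | Q x = δ} = 0 := by
    rw [card_eq_zero, filter_eq_empty_iff]
    exact fun x _ => hc x
  set s : Finset F := (univ.erase 0).erase δ
  have hs : #s = q - 2 := by
    rw [card_erase_of_mem (mem_erase.2 ⟨hδ, mem_univ _⟩), card_erase_of_mem (mem_univ _), card_univ]
    omega
  have split : ∀ g : ℕ → ℕ, g 0 = 0 → ∑ d : F, g #{x : W | Q x = d} = g 1 + ∑ d ∈ s, g #{x : W | Q x = d} := by
    intro g hg
    rw [← add_sum_erase univ _ (mem_univ (0 : F)), hN0,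
      ← add_sum_erase _ _ (show δ ∈ univ.erase (0 : F) from mem_erase.2 ⟨hδ, mem_univ _⟩), hNd, hg, zero_add]
  have hsum : ∑ d ∈ s, #{x : W | Q x = d} = M - 1 := by
    have h := split id rfl
    have h' := card_eq_sum_card_fiberwise (f := Q) (s := (univ : Finset W)) (t := univ) fun _ _ => mem_univ _
    rw [card_univ] at h'
    simp only [id] at h
    omega
  have hsq : ∑ d ∈ s, #{x : W | Q x = d} ^ 2 = M + (M - 1) * K - 1 := by
    have h := split (· ^ 2) rfl
    simp only [hT, one_pow] at h
    omega
  have hcs := sq_sum_le_card_mul_sum_sq (s := s) (f := fun d => #{x : W | Q x = d})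
  simp only [hsum, hsq, hs] at hcs
  have hM1 : 1 ≤ M := Fintype.card_pos
  obtain ⟨m, hm⟩ : ∃ m, M = m + 1 := ⟨M - 1, by omega⟩
  obtain ⟨r, hr⟩ : ∃ r, q = r + 2 := ⟨q - 2, by omega⟩
  rw [hm, hr, show m + 1 - 1 = m by omega, show r + 2 - 2 = r by omega,
    show m + 1 + m * K - 1 = m * (1 + K) by rw [mul_add, mul_one]; omega] at hcs
  have hmpos : 0 < m := by nlinarith
  have h1 : m ≤ r * (1 + K) := by
    refine Nat.le_of_mul_le_mul_left ?_ hmpos
    nlinarith
  rw [hm, hr] at hMK
  rw [hr] at hKq
  nlinarith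

end CfsgLib.Geometry.SpTwoOver
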