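import Cfsg.Agent.Lib.Geometry.SpTwoOver.Parity
import Cfsg.Agent.Lib.Geometry.OmegaGen

/-!
A group with singular orbit is one of the two orthogonal groups of its form.
-/

set_option autoImplicit false
set_option linter.unusedSectionVars false

namespace CfsgLib.Geometry.SpTwoOver

open QuadraticMap
open LinearMap (BilinForm)

variable {F V : Type*} [Field F] [Finite F] [AddCommGroup V] [Module F V] [CharP F 2] [FiniteDimensional F V]
variable {B : BilinForm F V} {L : Subgroup (V ≃ₗ[F] V)} {a : V} {Q : QuadraticForm F V}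
variable (H : Orb B L a) (hp : ∀ x y, polar Q x y = B x y) (hs : ∀ c, On L a c → Q c = 0)
include H hp hs

omit hs in
theorem Orb.polar_nd : (polarBilin Q).Nondegenerate := by
  refine ⟨fun x h => H.nd.1 x fun y => ?_, fun y h => H.nd.2 y fun x => ?_⟩
  · rw [← hp]; exact h y
  · rw [← hp]; exact h x

theorem Orb.le_orth : L ≤ orth Q := by
  let W : Submodule F V :=
    { carrier := {x | ∀ g ∈ L, Q (g x) = Q x}
      zero_mem' := fun g _ => by rw [_root_.map_zero]
      add_mem' := fun {x y} hx hy g hg => by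
        rw [map_add, map_add', map_add', hx g hg, hy g hg, hp, hp, H.pres g hg]
      smul_mem' := fun c x hx g hg => by rw [map_smul, map_smul', map_smul', hx g hg] }
  rcases H.irr W (fun g hg w hw k hk => by
    rw [hw g hg]; exact hw (k * g) (mul_mem hk hg)) with h | h
  · exact absurd ((Submodule.mem_bot F).1 (h ▸ (show a ∈ W from fun g hg => by
      rw [hs _ ((On.refl a).map hg), hs a (On.refl a)]))) H.ne
  · exact fun g hg v => (h ▸ Submodule.mem_top : v ∈ W) g hg

theorem Orb.on_of_polar {c : V} (hc : Q c = 0) (hca : B a c = 1) : On L a c := by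
  obtain ⟨b, hb, hab⟩ := H.exists_nonperp
  have hd : B (c + b) a = 0 := by rw [H.B_symm, map_add, hca, hab, CharTwo.add_self_eq_zero]
  obtain ⟨k, hk⟩ := H.pt _ hd
  have h := H.move hab hk hb
  set μ := B b (c + b) + k
  have e : b + (c + b) + μ • a = c + μ • a := by linear_combination (norm := module) add_self F b
  rw [e] at h
  have h0 := hs _ h
  rw [map_add', map_smul', hc, hs a (On.refl a), hp, map_smul, smul_eq_mul, H.B_symm c a, hca] at h0
  simp at h0
  simpa [h0] using h

theorem Orb.on_of_singular {c : V} (hc : Q c = 0) (hc0 : c ≠ 0) : On L a c := by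
  have go : ∀ p, On L a p → ∀ c, Q c = 0 → B p c ≠ 0 → On L a c := by
    intro p hp' c hc hne
    have h := (H.base hp').on_of_polar hp (fun x hx => hs x (hp'.trans hx)) (c := (B p c)⁻¹ • c)
      (by rw [map_smul', hc, mul_zero]) (by rw [map_smul, smul_eq_mul, inv_mul_cancel₀ hne])
    have h2 := (hp'.trans h).smul hne
    rwa [smul_inv_smul₀ hne] at h2
  by_cases hca : B a c = 0
  swap
  · exact go a (On.refl a) c hc hca
  obtain ⟨y, -, hya, hyc⟩ := exists_perp₂ (σ := RingHom.id F) Function.surjective_id _ H.nd.1 ⊥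
    (x := a) (y := c) (by simpa using H.ne) (by simpa using hc0)
  set e := y + (Q y / B y a) • a
  have he : Q e = 0 := by
    rw [map_add', map_smul', hs a (On.refl a), hp, map_smul, smul_eq_mul, mul_zero, add_zero,
      div_mul_cancel₀ _ hya, CharTwo.add_self_eq_zero]
  have hae : B a e ≠ 0 := by rw [map_add, map_smul, H.alt a, smul_zero, add_zero, H.B_symm]; exact hya
  refine go e (go a (On.refl a) e he hae) c hc ?_
  rwa [map_add, map_smul, LinearMap.add_apply, LinearMap.smul_apply, hca, smul_zero, add_zero]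

theorem Orb.siegelGroup_le : siegelGroup Q ≤ L := by
  rw [siegelGroup, Subgroup.closure_le]
  rintro _ ⟨e, w, he, hw, rfl⟩
  rcases eq_or_ne e 0 with rfl | he0
  · have : siegel Q 0 w he hw = 1 := LinearEquiv.ext fun v => by
      simp [siegel_apply, QuadraticMap.polar_zero_right]
    rw [this]; exact one_mem L
  have hwe : B w e = 0 := by rw [H.B_symm, ← hp]; exact hw
  have Hb := H.base (H.on_of_singular hp hs he he0)
  obtain ⟨k, g, hg, eg⟩ := Hb.pt w hwe
  have hk : k = Q w := by
    obtain ⟨x, hx⟩ : ∃ x, B x e = 1 := by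
      obtain ⟨x, -, hx⟩ := exists_perp (σ := RingHom.id F) Function.surjective_id _ H.nd.1 ⊥ (x := e)
        (by simpa using he0) 1
      exact ⟨x, hx⟩
    have h1 := mem_orth.1 (H.le_orth hp hs hg) x
    rw [eg, hx, one_smul, mul_one, map_add', map_add', map_smul', he, hp, hp, map_smul, smul_eq_mul, map_add,
      LinearMap.add_apply, hx, hwe] at h1
    linear_combination h1 - (Q w + B x w) * CharTwo.two_eq_zero (R := F)
  suffices siegel Q e w he hw = g from this ▸ hg
  refine LinearEquiv.ext fun x => ?_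
  rw [siegel_apply, eg, hp, hp, hk]
  linear_combination (norm := module) -(add_self F (B x w • e)) - add_self F ((Q w * B x e) • e)

omit hs in
theorem Orb.refl_congr {u v : V} (hu : Q u ≠ 0) (hv : Q v ≠ 0) (hdim : 4 ≤ Module.finrank F V) :
    refl Q v hv * refl Q u hu ∈ siegelGroup Q := by
  obtain ⟨t, ht⟩ := exists_sq H (Q u / Q v)
  have ht0 : t ≠ 0 := fun e => div_ne_zero hu hv (by rw [← ht, e, zero_mul])
  have hv' : Q (t • v) = Q u := by rw [map_smul', ht, div_mul_cancel₀ _ hv]
  have hv'0 : Q (t • v) ≠ 0 := hv' ▸ hu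
  obtain ⟨s, hs', hsu⟩ := siegel_trans_norm (H.polar_nd hp) hdim hu hv'
  have e : refl Q v hv = s * refl Q u hu * s⁻¹ := by
    rw [refl_conj Q (siegelGroup_le_orth hs'), ← refl_smul Q v hv ht0 hv'0]
    simp only [hsu]
  rw [e, mul_assoc, mul_assoc]
  refine mul_mem hs' ?_
  have := siegelGroup_normal (refl_mem_orth Q u hu) (inv_mem hs')
  rwa [inv_eq_of_mul_eq_one_right (refl_mul_self Q u hu), mul_assoc] at this

theorem Orb.orth_cases (hdim : 4 ≤ Module.finrank F V) (hn : Module.finrank F V = 4 ∨ reflGroup Q = orth Q)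
    {u : V} (hu : Q u ≠ 0) {g : V ≃ₗ[F] V} (hg : g ∈ orth Q) :
    g ∈ siegelGroup Q ∨ g * refl Q u hu ∈ siegelGroup Q := by
  have hr2 : refl Q u hu * refl Q u hu = 1 := refl_mul_self Q u hu
  have hmul : ∀ g k : V ≃ₗ[F] V, (g ∈ siegelGroup Q ∨ g * refl Q u hu ∈ siegelGroup Q) →
      (k ∈ siegelGroup Q ∨ k * refl Q u hu ∈ siegelGroup Q) →
      g * k ∈ siegelGroup Q ∨ g * k * refl Q u hu ∈ siegelGroup Q := by
    rintro g k (h1 | h1) (h2 | h2)
    · exact Or.inl (mul_mem h1 h2)
    · exact Or.inr (by rw [mul_assoc]; exact mul_mem h1 h2)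
    · refine Or.inr ?_
      rw [show g * k * refl Q u hu = g * refl Q u hu * ((refl Q u hu)⁻¹ * k * (refl Q u hu)⁻¹⁻¹) by group]
      exact mul_mem h1 (siegelGroup_normal (inv_mem (refl_mem_orth Q u hu)) h2)
    · refine Or.inl ?_
      rw [show g * k = g * refl Q u hu * ((refl Q u hu)⁻¹ * (k * refl Q u hu) * (refl Q u hu)⁻¹) by group]
      refine mul_mem h1 ?_
      rw [inv_eq_of_mul_eq_one_right hr2]
      simpa [inv_eq_of_mul_eq_one_right hr2] using siegelGroup_normal (refl_mem_orth Q u hu) h2
  have hrefl : ∀ v (hv : Q v ≠ 0), refl Q v hv ∈ siegelGroup Q ∨ refl Q v hv * refl Q u hu ∈ siegelGroup Q :=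
    fun v hv => Or.inr (H.refl_congr hp hu hv hdim)
  rcases hn with h4 | hR
  swap
  · rw [← hR] at hg
    refine Subgroup.closure_induction (fun x hx => ?_) (Or.inl (one_mem _))
      (fun x y _ _ hx hy => hmul x y hx hy) (fun x hx' ih => ?_) hg
    · obtain ⟨v, hv, rfl⟩ := hx
      exact hrefl v hv
    · rcases ih with ih | ih
      · exact Or.inl (inv_mem ih)
      · refine Or.inr ?_
        have h1 := siegelGroup_normal (refl_mem_orth Q u hu) (inv_mem ih)
        rw [mul_inv_rev, inv_eq_of_mul_eq_one_right hr2] at h1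
        simpa [← mul_assoc, hr2] using h1
  obtain ⟨b, hb, hab⟩ := H.exists_nonperp
  have hQa := hs a (On.refl a)
  have hQb := hs b hb
  obtain ⟨s, hs', hsa, hsb⟩ := siegel_trans_pair (H.polar_nd hp) hdim hQa hQb
    (show Q (g a) = 0 by rw [mem_orth.1 hg, hQa]) (show Q (g b) = 0 by rw [mem_orth.1 hg, hQb])
    (by rw [hp, hab]) (by rw [orth_polar hg, hp, hab])
  set k := s⁻¹ * g with hk
  have hka : k a = a := by show s.symm (g a) = a; rw [← hsa, s.symm_apply_apply]
  have hkb : k b = b := by show s.symm (g b) = b; rw [← hsb, s.symm_apply_apply]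
  have hko : k ∈ orth Q := mul_mem (inv_mem (siegelGroup_le_orth hs')) hg
  rw [show g = s * k by rw [hk, mul_inv_cancel_left]]
  refine hmul s k (Or.inl hs') ?_
  -- at most two reflections in the plane orthogonal to the pair
  set T := LinearMap.ker (B.flip a) ⊓ LinearMap.ker (B.flip b)
  have hT2 : Module.finrank F T = 2 := by
    have h1 := LinearMap.finrank_range_add_finrank_ker ((B.flip a).prod (B.flip b))
    rw [LinearMap.ker_prod] at h1
    change _ + Module.finrank F T = _ at h1
    have hs : LinearMap.range ((B.flip a).prod (B.flip b)) = ⊤ := by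
      refine LinearMap.range_eq_top.2 fun xy => ⟨xy.2 • a + xy.1 • b, ?_⟩
      ext <;> simp [H.alt a, H.alt b, hab, H.B_symm b a]
    rw [hs, finrank_top, Module.finrank_prod, Module.finrank_self] at h1
    omega
  have hkT : ∀ x ∈ T, k x ∈ T := fun x hx => by
    refine ⟨?_, ?_⟩
    · show B (k x) a = 0
      conv_lhs => rw [← hka, ← hp, orth_polar hko, hp]
      exact hx.1
    · show B (k x) b = 0
      conv_lhs => rw [← hkb, ← hp, orth_polar hko, hp]
      exact hx.2
  have hdec : ∀ v, v + B v b • a + B v a • b ∈ T := fun v =>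
    ⟨by simp [H.alt a, H.B_symm b a, hab, CharTwo.add_self_eq_zero],
      by simp [H.alt b, hab, CharTwo.add_self_eq_zero]⟩
  have hndT : ∀ x ∈ T, x ≠ 0 → ∃ y ∈ T, B x y = 1 := fun x hx h0 => by
    obtain ⟨v, -, hv⟩ := exists_perp (σ := RingHom.id F) Function.surjective_id _ H.nd.1 ⊥ (x := x)
      (by simpa using h0) 1
    refine ⟨_, hdec v, ?_⟩
    have h1 : B x a = 0 := hx.1
    have h2 : B x b = 0 := hx.2
    rw [H.B_symm] at hv
    simp [h1, h2, hv]
  obtain ⟨x, hxT, hx⟩ : ∃ x ∈ T, Q x ≠ 0 := by
    obtain ⟨z, hz, hz0⟩ := T.exists_mem_ne_zero_of_ne_bot (fun e => by rw [e, finrank_bot] at hT2; omega)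
    obtain ⟨y, hy, hzy⟩ := hndT z hz hz0
    by_cases h1 : Q z = 0
    · by_cases h2 : Q y = 0
      · exact ⟨z + y, T.add_mem hz hy, by rw [map_add', h1, h2, hp, hzy]; simp⟩
      · exact ⟨y, hy, h2⟩
    · exact ⟨z, hz, h1⟩
  have hx0 : x ≠ 0 := fun e => hx (by rw [e, QuadraticMap.map_zero])
  obtain ⟨y, hy, hxy⟩ := hndT x hxT hx0
  -- vectors of the plane
  have hplane : ∀ v ∈ T, v = B v y • x + B v x • y := by
    intro v hv
    by_contra hne
    set w := v + B v y • x + B v x • y with hw
    have hw0 : w ≠ 0 := fun e => hne (by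
      linear_combination (norm := module) hw.symm.trans e - add_self F (B v y • x) - add_self F (B v x • y))
    have hwT : w ∈ T := T.add_mem (T.add_mem hv (T.smul_mem _ hxT)) (T.smul_mem _ hy)
    obtain ⟨z, hz, hwz⟩ := hndT w hwT hw0
    have hwx : B w x = 0 := by simp [hw, H.alt x, H.B_symm y x, hxy, CharTwo.add_self_eq_zero]
    have hwy : B w y = 0 := by simp [hw, H.alt y, hxy, CharTwo.add_self_eq_zero]
    have hli : LinearIndependent F ![(⟨w, hwT⟩ : T), ⟨x, hxT⟩, ⟨y, hy⟩] := by
      rw [Fintype.linearIndependent_iff]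
      intro c hc
      have hc' : c 0 • w + c 1 • x + c 2 • y = 0 := by
        simpa [Fin.sum_univ_three] using congrArg Subtype.val hc
      have e1 := congrArg (fun v => B v x) hc'
      have e2 := congrArg (fun v => B v y) hc'
      simp [hwx, hwy, H.alt x, H.alt y, H.B_symm y x, hxy] at e1 e2
      rw [e1, e2, zero_smul, zero_smul, add_zero, add_zero, smul_eq_zero] at hc'
      intro i
      fin_cases i
      · exact hc'.resolve_right hw0
      · exact e2
      · exact e1
    have := hli.fintype_card_le_finrank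
    rw [Fintype.card_fin, hT2] at this
    omega
  have fix : ∀ j : V ≃ₗ[F] V, j a = a → j b = b → j x = x → j y = y → j = 1 := fun j ja jb jx jy => by
    refine LinearEquiv.ext fun v => ?_
    have h := hplane _ (hdec v)
    have h' := congrArg j h
    rw [map_add, map_add, map_smul, map_smul, ja, jb, map_add, map_smul, map_smul, jx, jy, ← h] at h'
    exact add_right_cancel (add_right_cancel h')
  have two : ∀ j ∈ orth Q, j a = a → j b = b → j x = x → (∀ z ∈ T, j z ∈ T) →
      j ∈ siegelGroup Q ∨ j * refl Q u hu ∈ siegelGroup Q := by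
    intro j hj ja jb jx jT
    have h1 : B (j y) x = 1 := by
      conv_lhs => rw [← jx, ← hp, orth_polar hj, hp, H.B_symm, hxy]
    have h2 := hplane _ (jT y hy)
    rw [h1, one_smul] at h2
    have hc := mem_orth.1 hj y
    rw [h2, map_add', map_smul', hp, map_smul, LinearMap.smul_apply, hxy, smul_eq_mul, mul_one] at hc
    set c := B (j y) y
    rcases eq_or_ne c 0 with hc0 | hc0
    · exact Or.inl ((fix j ja jb jx (by rw [h2, hc0, zero_smul, zero_add])) ▸ one_mem _)
    have hcQ : c = (Q x)⁻¹ := by
      refine eq_inv_of_mul_eq_one_left ?_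
      have : c * (c * Q x + 1) = 0 := by linear_combination hc
      have h3 := (mul_eq_zero.1 this).resolve_left hc0
      linear_combination h3 - CharTwo.two_eq_zero (R := F)
    have hrx : j * refl Q x hx = 1 := by
      have rfix : ∀ v, B v x = 0 → refl Q x hx v = v := fun v hv => refl_eq_self Q x hx (by rw [hp, hv])
      refine fix _ ?_ ?_ ?_ ?_
      · show j (refl Q x hx a) = a
        rw [rfix a (by rw [H.B_symm]; exact hxT.1), ja]
      · show j (refl Q x hx b) = b
        rw [rfix b (by rw [H.B_symm]; exact hxT.2), jb]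
      · show j (refl Q x hx x) = x
        rw [rfix x (H.alt x), jx]
      · show j (refl Q x hx y) = y
        rw [refl_apply, hp, H.B_symm, hxy, mul_one, map_sub, map_smul, jx, h2, hcQ]
        abel
    have : j = refl Q x hx := by
      rw [← mul_one j, ← refl_mul_self Q x hx, ← mul_assoc, hrx, one_mul]
    rw [this]
    exact hrefl x hx
  by_cases hkx : k x = x
  · exact two k hko hka hkb hkx hkT
  · set d := x + k x with hd
    have hdT : d ∈ T := T.add_mem hxT (hkT x hxT)
    have hQd : Q d ≠ 0 := by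
      intro h0
      rw [map_add', mem_orth.1 hko, hp, CharTwo.add_self_eq_zero, zero_add] at h0
      have h := hplane _ (hkT x hxT)
      rw [H.B_symm (k x) x, h0, zero_smul, add_zero] at h
      have hq := mem_orth.1 hko x
      rw [h, map_smul'] at hq
      have h5 : (B (k x) y + 1) * (B (k x) y + 1) * Q x = 0 := by
        linear_combination hq + (B (k x) y * Q x + Q x) * CharTwo.two_eq_zero (R := F)
      simp [hx, CharTwo.add_eq_zero] at h5
      exact hkx (by rw [h, h5, one_smul])
    have hrd : ∀ v, B v d = 0 → refl Q d hQd v = v := fun v hv => refl_eq_self Q d hQd (by rw [hp, hv])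
    have hsplit : k = refl Q d hQd * (refl Q d hQd * k) := by rw [← mul_assoc, refl_mul_self, one_mul]
    rw [hsplit]
    refine hmul _ _ (hrefl d hQd) (two _ (mul_mem (refl_mem_orth Q d hQd) hko) ?_ ?_ ?_ ?_)
    · show refl Q d hQd (k a) = a
      rw [hka, hrd a (by rw [H.B_symm]; exact hdT.1)]
    · show refl Q d hQd (k b) = b
      rw [hkb, hrd b (by rw [H.B_symm]; exact hdT.2)]
    · show refl Q d hQd (k x) = x
      have hQd' : Q d = B x (k x) := by rw [map_add', mem_orth.1 hko, hp, CharTwo.add_self_eq_zero, zero_add]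
      rw [refl_apply, hp]
      have : B (k x) d = Q d := by rw [hQd', map_add, H.alt (k x), add_zero, H.B_symm]
      rw [this, inv_mul_cancel₀ hQd, one_smul, hd]
      linear_combination (norm := module) -(add_self F x)
    · intro z hz
      show refl Q d hQd (k z) ∈ T
      rw [refl_apply]
      exact T.sub_mem (hkT z hz) (T.smul_mem _ hdT)

theorem Orb.reflGroup_or_four (hdim : 4 ≤ Module.finrank F V) :
    Module.finrank F V = 4 ∨ reflGroup Q = orth Q :=
  (eq_or_ne (Module.finrank F V) 4).imp_right fun h => reflGroup_eq_orth (H.polar_nd hp) (Or.inl h)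

theorem Orb.dickson_siegel (hdim : 4 ≤ Module.finrank F V) {s : V ≃ₗ[F] V} (hs' : s ∈ siegelGroup Q) :
    dickson s = 0 := by
  have hQ := H.polar_nd hp
  by_cases hmax : Module.finrank F V = 4 ∧ ∃ U, IsMaxSing Q 2 U
  · obtain ⟨h4, U, hU⟩ := hmax
    have h4' : Module.finrank F V = 2 * 2 := h4
    rw [← par_eq_dickson hQ h4' hU (siegelGroup_le_orth hs')]
    induction hs' using Subgroup.closure_induction with
    | mem x hx =>
      obtain ⟨e, w, he, hw, rfl⟩ := hx
      exact par_siegel hQ h4' hU e w he hw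
    | one => exact par_one hQ h4' hU
    | mul x y hx hy ihx ihy =>
      rw [par_mul hQ h4' hU (siegelGroup_le_orth hx) (siegelGroup_le_orth hy), ihx, ihy, add_zero]
    | inv x hx ih => rw [par_inv hQ h4' hU (siegelGroup_le_orth hx), ih]
  have hsp : SplitSingular Q := by
    rcases eq_or_ne (Module.finrank F V) 4 with h4 | h4
    swap
    · exact splitSingular_of hQ (Or.inl h4)
    intro e u he0 he heu hu
    left
    by_contra hne
    refine hmax ⟨h4, Submodule.span F {e, u}, ⟨?_, ?_⟩⟩
    · have hli : LinearIndependent F ![e, u] := by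
        rw [LinearIndependent.pair_iff' he0]
        exact fun c hc => hne (Submodule.mem_span_singleton.2 ⟨c, hc⟩)
      have := finrank_span_eq_card hli
      rwa [Matrix.range_cons, Matrix.range_cons, Matrix.range_empty, Set.union_empty, Set.singleton_union,
        Fintype.card_fin] at this
    · intro z hz
      obtain ⟨c, d, rfl⟩ := Submodule.mem_span_pair.1 hz
      rw [map_add', map_smul', map_smul', he, hu, polar_smul_left', polar_smul_right', heu]
      ring
  have hR : reflGroup Q = orth Q := le_antisymm (reflGroup_le_orth Q) fun g hg =>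
    mem_reflGroup_of_fix hQ hsp (Module.finrank F V) ⊥ (by simp)
      (Or.inl fun t ht _ => (Submodule.mem_bot F).1 ht) g hg (fun t ht => by rw [(Submodule.mem_bot F).1 ht, _root_.map_zero])
  have hle : siegelGroup Q ≤ (commutator (orth Q)).map (orth Q).subtype := by
    rw [siegelGroup, Subgroup.closure_le]
    rintro _ ⟨e, w, he, hw, rfl⟩
    exact ⟨_, siegel_mem_commutator hQ (by omega) hsp hR e w he hw, rfl⟩
  obtain ⟨t, ht, rfl⟩ := hle hs'
  have h1 : t ∈ (dicksonHom hQ hR).ker := Abelianization.commutator_subset_ker _ ht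
  exact Multiplicative.ofAdd.injective (h1 : Multiplicative.ofAdd (dickson (t : V ≃ₗ[F] V)) = 1)

/-- The group is one of the two orthogonal groups. -/
theorem Orb.final (hdim : 4 ≤ Module.finrank F V) :
    L = orth Q ∨ ∀ g, g ∈ L ↔ g ∈ orth Q ∧ dickson g = 0 := by
  obtain ⟨b, hb, hab⟩ := H.exists_nonperp
  have hu : Q (a + b) ≠ 0 := by rw [map_add', hs a (On.refl a), hs b hb, hp, hab]; simp
  set r := refl Q (a + b) hu with hr
  have hn := H.reflGroup_or_four hp hs hdim
  have hiff : ∀ g ∈ orth Q, (g ∈ siegelGroup Q ↔ dickson g = 0) := fun g hg => by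
    refine ⟨fun h => H.dickson_siegel hp hs hdim h, fun h => ?_⟩
    refine (H.orth_cases hp hs hdim hn hu hg).resolve_right fun h1 => ?_
    have h2 := H.dickson_siegel hp hs hdim h1
    rw [dickson_mul_refl (H.polar_nd hp) hg hu, h, zero_add] at h2
    exact one_ne_zero h2
  by_cases hLS : L ≤ siegelGroup Q
  · refine Or.inr fun g => ⟨fun h => ⟨H.le_orth hp hs h, H.dickson_siegel hp hs hdim (hLS h)⟩, fun h => ?_⟩
    exact H.siegelGroup_le hp hs ((hiff g h.1).2 h.2)
  · refine Or.inl (le_antisymm (H.le_orth hp hs) fun g hg => ?_)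
    obtain ⟨k, hk, hkS⟩ := SetLike.not_le_iff_exists.1 hLS
    have h1 := (H.orth_cases hp hs hdim hn hu (H.le_orth hp hs hk)).resolve_left hkS
    have hrL : r ∈ L := by
      have := mul_mem (inv_mem hk) (H.siegelGroup_le hp hs h1)
      rwa [inv_mul_cancel_left] at this
    rcases H.orth_cases hp hs hdim hn hu hg with h | h
    · exact H.siegelGroup_le hp hs h
    · have := mul_mem (H.siegelGroup_le hp hs h) hrL
      rwa [hr, mul_refl_refl] at this

end CfsgLib.Geometry.SpTwoOver
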