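import Cfsg.Agent.Lib.Geometry.SpTwoOver.Value
import Cfsg.Agent.Lib.Geometry.SpTwoOver.Count

/-!
An orbit without perpendicular points is an ovoid of a quadratic form.
-/

set_option autoImplicit false
set_option linter.unusedSectionVars false

namespace CfsgLib.Geometry.SpTwoOver

open LinearMap (BilinForm)

variable {F V : Type*} [Field F] [Finite F] [AddCommGroup V] [Module F V] [CharP F 2] [FiniteDimensional F V]
variable {B : BilinForm F V} {L : Subgroup (V ≃ₗ[F] V)} {a b : V}

/-- Orbit points are never perpendicular. -/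
def Lonely (B : BilinForm F V) (L : Subgroup (V ≃ₗ[F] V)) (a : V) : Prop :=
  ∀ p r, On L a p → On L a r → B r p = 0 → r ∈ Submodule.span F {p}

/-- A single-valued choice of the radical elements. -/
def HasSel (B : BilinForm F V) (L : Subgroup (V ≃ₗ[F] V)) (a : V) : Prop :=
  ∃ l : V → F, (∀ w, B w a = 0 → El B L a w (l w)) ∧
    ∀ w w', B w a = 0 → B w' a = 0 → l (w + w') = l w + l w' + B w w'

/-- The perp of a pair. -/
def perp2 (B : BilinForm F V) (a b : V) : Submodule F V := LinearMap.ker (B.flip a) ⊓ LinearMap.ker (B.flip b)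

theorem mem_perp2 {w : V} : w ∈ perp2 B a b ↔ InW B a b w := Iff.rfl

variable (H : Orb B L a) (hab : B a b = 1) (hdim : 4 ≤ Module.finrank F V)
include H hab hdim

theorem Orb.value_of_aniso {l : V → F}
    (hadd : ∀ w w', B w a = 0 → B w' a = 0 → l (w + w') = l w + l w' + B w w')
    (haniso : ∀ w, InW B a b w → l w = 0 → w = 0) {δ : F} (hδ : δ ≠ 0) : ∃ w, InW B a b w ∧ l w = δ := by
  haveI : Finite V := Module.finite_of_finite F
  have hd : 2 ≤ Module.finrank F (perp2 B a b) := by
    have h4 := LinearMap.finrank_range_add_finrank_ker ((B.flip a).prod (B.flip b))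
    rw [LinearMap.ker_prod] at h4
    have h5 := Submodule.finrank_le (LinearMap.range ((B.flip a).prod (B.flip b)))
    rw [Module.finrank_prod, Module.finrank_self] at h5
    change _ + Module.finrank F (perp2 B a b) = _ at h4
    omega
  obtain ⟨w, hw⟩ := exists_value hd (B.compl₁₂ (perp2 B a b).subtype (perp2 B a b).subtype) (fun x hx => by
      by_contra hc
      push Not at hc
      refine hx (Subtype.ext ?_)
      refine H.nd.1 (x : V) fun v => ?_
      have h2 : InW B a b x := x.2
      have h1 : B (x : V) (proj B a b v) = 0 := hc ⟨proj B a b v, H.proj_mem hab v⟩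
      simpa [proj, h2.1, h2.2] using h1)
    (fun x => l (x : V)) (fun x z => hadd _ _ x.2.1 z.2.1) (fun x hx => Subtype.ext (haniso _ x.2 hx)) hδ
  exact ⟨w, w.2, hw⟩

omit hdim in
theorem Orb.not_mem_pair {w : V} (hw : InW B a b w) (hne : w ≠ 0) (μ : F) :
    b + w + μ • a ∉ Submodule.span F {b + μ • a} := by
  intro hm
  obtain ⟨t, ht⟩ := Submodule.mem_span_singleton.1 hm
  have h := congrArg (fun v => B v a) ht
  simp [H.ba hab, H.alt a, hw.1] at h
  rw [h, one_smul] at ht
  exact hne (by linear_combination (norm := module) -ht)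

variable (hb : On L a b) (hN : Lonely B L a)
include hb hN

theorem Orb.no_tr (hsel : HasSel B L a) (p : V) (hp : On L a p) : ¬ Tr B L p := by
  intro htr
  have htb : Tr B L b := by
    obtain ⟨g, hg, d, hd, rfl⟩ := hp.symm.trans hb
    obtain ⟨k, hk, hk'⟩ := htr
    refine Tr.smul ⟨k, hk, ?_⟩ hd
    simpa using hk'.conj H.pres hg
  obtain ⟨α, hα, g, hg, eg⟩ := htb
  obtain ⟨l, hl, hadd⟩ := hsel
  have himg : ∀ w, InW B a b w → On L a (b + w + l w • a) := fun w hw => by
    have h := H.move hab (hl w hw.1) hb
    rwa [H.B_symm b w, hw.2, zero_add] at h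
  have hl0 : l 0 = 0 := by
    have h := hadd 0 0 (by simp) (by simp)
    rw [add_zero, map_zero, add_zero, CharTwo.add_self_eq_zero] at h
    exact h
  have haniso : ∀ w, InW B a b w → l w = 0 → w = 0 := fun w hw h0 => by
    by_contra hne
    have h1 := himg w hw
    rw [h0] at h1
    have h2 := hN _ _ hb h1 (by simp [H.alt b, hw.2])
    simpa using H.not_mem_pair hab hw hne 0 (by simpa using h2)
  obtain ⟨w, hw, hlw⟩ := H.value_of_aniso hab hdim hadd haniso (inv_ne_zero hα)
  have hc : On L a (b + α⁻¹ • a) := by
    have h := ((On.refl a).map hg).smul (inv_ne_zero hα)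
    rw [eg, map_zero, smul_zero, add_zero, hab, mul_one, zero_add, smul_add, smul_smul, inv_mul_cancel₀ hα, one_smul]
      at h
    rwa [add_comm] at h
  have h1 := himg w hw
  rw [hlw] at h1
  refine H.not_mem_pair hab hw (fun e => inv_ne_zero hα (by rw [← hlw, e, hl0])) α⁻¹ (hN _ _ hc h1 ?_)
  simp [H.alt b, H.alt a, hab, H.ba hab, hw.1, hw.2, CharTwo.add_self_eq_zero]

variable (hT : ∀ p, On L a p → ¬ Tr B L p)
include hT

theorem Orb.aniso {w : V} (hw : InW B a b w) (h0 : val B L a w = 0) : w = 0 := by
  by_contra hne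
  have h1 := H.image hab hb hT hw
  rw [h0] at h1
  have h2 := hN _ _ hb h1 (by simp [H.alt b, hw.2])
  simpa using H.not_mem_pair hab hw hne 0 (by simpa using h2)

theorem Orb.ovoid {c : V} (hc : On L a c) (hca : B a c = 1) : B c b = val B L a (proj B a b c) := by
  by_contra hne
  set v := proj B a b c with hv'
  set μ := B c b
  have hv : InW B a b v := H.proj_mem hab c
  have hd : c = v + μ • a + b := by
    have h := proj_decomp (B := B) (a := a) (b := b) c
    rwa [← hv', H.B_symm c a, hca, one_smul] at h
  obtain ⟨w, hw, hwv⟩ := H.value_of_aniso hab hdim (fun w w' h h' => H.val_add hT (On.refl a) h h')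
    (fun w hw h => H.aniso hab hdim hb hN hT hw h) (δ := μ + val B L a v) (fun e => hne (CharTwo.add_eq_zero.1 e))
  have hw0 : w ≠ 0 := fun e => by
    rw [e, H.val_zero hT (On.refl a)] at hwv
    exact hne (CharTwo.add_eq_zero.1 hwv.symm)
  have hu := hv.add hw
  have h1 := H.image hab hb hT hu
  have hval : val B L a (v + w) = μ + B v w := by
    rw [H.val_add hT (On.refl a) hv.1 hw.1, hwv]
    linear_combination val B L a v * CharTwo.two_eq_zero (R := F)
  rw [hval] at h1
  have h2 := hN c _ hc h1 (by
    rw [hd]
    simp [H.alt b, H.alt a, H.alt v, hab, H.ba hab, H.B_symm b v, H.B_symm a v, hv.1, hv.2, hw.1, hw.2,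
      H.B_symm w v]
    linear_combination (μ + B v w) * CharTwo.two_eq_zero (R := F))
  obtain ⟨t, ht⟩ := Submodule.mem_span_singleton.1 h2
  have e1 := congrArg (fun x => B x a) ht
  rw [hd] at e1
  simp [H.alt a, H.ba hab, hv.1, hw.1] at e1
  rw [e1, one_smul, hd] at ht
  have e2 := congrArg (proj B a b) ht
  simp only [proj, map_add, map_smul, LinearMap.add_apply, LinearMap.smul_apply, smul_eq_mul, H.alt a, H.alt b, hab,
    H.ba hab, hv.1, hv.2, hw.1, hw.2] at e2
  exact hw0 (by linear_combination (norm := module) -e2 + add_self F (μ • a) - add_self F ((μ + B v w) • a))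

theorem Orb.rel {w : V} (hw : InW B a b w) (hne : w ≠ 0) :
    val B L b ((val B L a w)⁻¹ • w) = (val B L a w)⁻¹ := by
  have Hb := H.base hb
  have hT' : ∀ p, On L b p → ¬ Tr B L p := fun p hp => hT _ (hb.trans hp)
  have hN' : Lonely B L b := fun x r hx hr => hN x r (hb.trans hx) (hb.trans hr)
  have hk : val B L a w ≠ 0 := fun e => hne (H.aniso hab hdim hb hN hT hw e)
  have hc := (hb.symm.trans (H.image hab hb hT hw)).smul (inv_ne_zero hk)
  have h := Hb.ovoid (H.ba hab) hdim hb.symm hN' hT' hc (by
    simp [H.alt b, hab, H.ba hab, H.B_symm b w, hw.2, hk])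
  have e : proj B b a ((val B L a w)⁻¹ • (b + w + val B L a w • a)) = (val B L a w)⁻¹ • w := by
    simp only [proj, smul_add, inv_smul_smul₀ hk, map_add, map_smul, LinearMap.add_apply, LinearMap.smul_apply,
      smul_eq_mul, H.alt a, H.alt b, hab, H.ba hab, hw.1, hw.2, mul_zero, mul_one, add_zero, zero_add, one_smul]
    linear_combination (norm := module) add_self F ((val B L a w)⁻¹ • b) + add_self F a
  rw [e] at h
  simp [inv_smul_smul₀ hk, smul_add, H.alt a, H.ba hab, hw.1] at h
  exact h.symm

/-- The conjugate of the radical of `a` by the element exchanging the pair. -/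
theorem Orb.swap_rel {w x : V} (hw : InW B a b w) (hne : w ≠ 0) (hx : InW B a b x) :
    val B L b ((val B L a w)⁻¹ • (x + (B x w / val B L a w) • w)) =
      val B L a x / (val B L a w * val B L a w) := by
  have hk : val B L a w ≠ 0 := fun e => hne (H.aniso hab hdim hb hN hT hw e)
  have hrel := H.rel hab hdim hb hN hT hw hne
  set k := val B L a w with hk'
  obtain ⟨g1, hg1, e1⟩ := H.el_val hT (On.refl a) hw.1
  obtain ⟨g2, hg2, e2⟩ := H.el_val hT hb (p := b) (w := k⁻¹ • w) (by
    rw [map_smul, LinearMap.smul_apply, hw.2, smul_zero])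
  rw [hrel] at e2
  rw [← hk'] at e1
  set n := g1 * g2 * g1
  have hn : n ∈ L := mul_mem (mul_mem hg1 hg2) hg1
  have g1a : g1 a = a := by simp [e1, H.alt a, H.B_symm a w, hw.1]
  have g1w : g1 w = w := by simp [e1, H.alt w, hw.1]
  have g1b : g1 b = b + w + k • a := by
    rw [e1, H.ba hab, H.B_symm b w, hw.2, one_smul, zero_add, mul_one]
  have g2a : g2 a = a + k⁻¹ • w + k⁻¹ • b := by simp [e2, hab, H.B_symm a w, hw.1]
  have na : n a = k⁻¹ • b := by
    show g1 (g2 (g1 a)) = _
    rw [g1a, g2a, map_add, map_add, map_smul, map_smul, g1a, g1w, g1b, smul_add, smul_add, inv_smul_smul₀ hk]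
    linear_combination (norm := module) add_self F a + add_self F (k⁻¹ • w)
  have nx : n x = x + (B x w / k) • w := by
    show g1 (g2 (g1 x)) = _
    have g1x : g1 x = x + B x w • a := by simp [e1, hx.1]
    have g2x : g2 x = x + (B x w / k) • b := by simp [e2, hx.2, div_eq_inv_mul]
    rw [g1x, map_add, map_smul, g2x, g2a, map_add, map_add, map_smul, map_smul, map_add, map_add, map_smul,
      map_smul, g1a, g1w, g1b, g1x, div_eq_mul_inv]
    simp only [smul_add, smul_smul, mul_assoc, inv_mul_cancel₀ hk, mul_one]
    linear_combination (norm := module) add_self F (B x w • a) + add_self F (B x w • a) + add_self F ((B x w * k⁻¹) • b) +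
      add_self F ((B x w * k⁻¹) • w)
  have h := ((H.el_val hT (On.refl a) hx.1).conj H.pres hn).smul_pt hk
  rw [na, nx, smul_smul, mul_inv_cancel₀ hk, one_smul] at h
  exact H.val_eq hT hb (by simp [hx.2, hw.2]) h

theorem Orb.hom2_ovoid : Hom2 B L a b := by
  haveI := Fintype.ofFinite F
  let K : Set F := {s | ∀ y, InW B a b y → val B L a (s • y) = s * s * val B L a y}
  have hKpow : ∀ s ∈ K, ∀ i : ℕ, s ^ i ∈ K := fun s hs i => by
    induction i with
    | zero => intro y _; simp
    | succ i ih =>
      intro y hy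
      rw [pow_succ, mul_smul, ih _ (hy.smul _), hs y hy]; ring
  have hall : ∀ w, InW B a b w → ∀ t : F, val B L a (t • w) = t * t * val B L a w := by
    intro w hw t
    rcases eq_or_ne w 0 with rfl | hne
    · rw [smul_zero, H.val_zero hT (On.refl a)]; ring
    have hk : ∀ t : F, t ≠ 0 → val B L a (t • w) ≠ 0 := fun t ht e => by
      rcases smul_eq_zero.1 (H.aniso hab hdim hb hN hT (hw.smul t) e) with h | h
      · exact ht h
      · exact hne h
    set k₀ := val B L a w with hk₀
    have hk0 : k₀ ≠ 0 := fun e => hne (H.aniso hab hdim hb hN hT hw e)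
    have hψK : ∀ t : F, val B L a (t • w) / k₀ ∈ K := by
      intro t
      rcases eq_or_ne t 0 with rfl | ht
      · intro y _
        rw [zero_smul, H.val_zero hT (On.refl a), zero_div, zero_smul, H.val_zero hT (On.refl a)]
        ring
      set k₁ := val B L a (t • w) with hk₁
      have hk1 : k₁ ≠ 0 := hk t ht
      set c := k₁ / k₀ with hc
      set γ := t * t / k₁ + k₀⁻¹ with hγ
      have step : ∀ y, InW B a b y →
          val B L a (c • (y + (γ * B y w) • w)) = c * c * val B L a y := by
        intro y hy
        set x := c • (y + (γ * B y w) • w) with hx'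
        have hx : InW B a b x := (hy.add (hw.smul _)).smul _
        have h0 := H.swap_rel hab hdim hb hN hT hw hne hy
        have h1 := H.swap_rel hab hdim hb hN hT (hw.smul t) (smul_ne_zero ht hne) hx
        rw [← hk₁] at h1
        rw [← hk₀] at h0
        have e : k₁⁻¹ • (x + (B x (t • w) / k₁) • t • w) = k₀⁻¹ • (y + (B y w / k₀) • w) := by
          have ew : B x (t • w) = c * t * B y w := by
            rw [hx']
            simp only [map_smul, map_add, LinearMap.smul_apply, LinearMap.add_apply, smul_eq_mul, H.alt w]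
            ring
          rw [ew, hx', hc, hγ]
          match_scalars
          · field_simp
          · field_simp
            linear_combination (t * t * B y w * k₀) * CharTwo.two_eq_zero (R := F)
        rw [e] at h1
        have h2 := h1.symm.trans h0
        rw [div_eq_div_iff (mul_ne_zero hk1 hk1) (mul_ne_zero hk0 hk0)] at h2
        rw [hc]
        field_simp
        linear_combination h2
      have hc2 : c ^ 2 ∈ K := by
        intro y hy
        have h := step _ ((hy.add (hw.smul (γ * B y w))).smul c)
        rw [step y hy] at h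
        have e : c • (c • (y + (γ * B y w) • w) + (γ * B (c • (y + (γ * B y w) • w)) w) • w) = c ^ 2 • y := by
          simp only [map_smul, map_add, LinearMap.smul_apply, LinearMap.add_apply, smul_eq_mul, H.alt w]
          linear_combination (norm := module) add_self F ((c * c * (γ * B y w)) • w)
        rw [e] at h
        rw [h]; ring
      have hc' : c = (c ^ 2) ^ (Fintype.card F / 2) := by
        rw [← pow_mul, Nat.mul_div_cancel' (Nat.dvd_of_mod_eq_zero
          (FiniteField.even_card_of_char_two (CharP.ringChar_of_prime_eq_zero Nat.prime_two CharTwo.two_eq_zero))),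
          FiniteField.pow_card]
      rw [hc']
      exact hKpow _ hc2 _
    have hinj : Function.Injective fun t : F => val B L a (t • w) / k₀ := by
      intro s u h
      by_contra hsu
      refine hk (s + u) (fun e => hsu (CharTwo.add_eq_zero.1 e)) ?_
      have h' : val B L a (s • w) = val B L a (u • w) := by
        simpa [div_left_inj' hk0] using h
      rw [add_smul, H.val_add hT (On.refl a) (hw.smul s).1 (hw.smul u).1, h', map_smul, map_smul,
        LinearMap.smul_apply, H.alt w, smul_zero, smul_zero, add_zero, CharTwo.add_self_eq_zero]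
    obtain ⟨u, hu⟩ := Finite.injective_iff_surjective.1 hinj t
    exact (hu ▸ hψK u : t ∈ K) w hw
  refine ⟨fun w hw => ?_, hall⟩
  rcases eq_or_ne w 0 with rfl | hne
  · rw [H.val_zero hT (On.refl a), H.val_zero hT hb]
  have hk : val B L a w ≠ 0 := fun e => hne (H.aniso hab hdim hb hN hT hw e)
  have h := H.rel hab hdim hb hN hT (hw.smul (val B L a w)⁻¹) (smul_ne_zero (inv_ne_zero hk) hne)
  rw [hall w hw, smul_smul] at h
  have e : ((val B L a w)⁻¹ * (val B L a w)⁻¹ * val B L a w) = (val B L a w)⁻¹ := by field_simp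
  rw [e, inv_inv, mul_inv_cancel₀ hk, one_smul] at h
  exact h

theorem Orb.singular_ovoid (hh : Hom2 B L a b) {c : V} (hc : On L a c) : H.form hab hT hh c = 0 := by
  by_cases h : B a c = 0
  · obtain ⟨t, rfl⟩ := Submodule.mem_span_singleton.1 (hN a c (On.refl a) hc (by rw [H.B_symm, h]))
    rw [QuadraticMap.map_smul, H.form_left hab hT, smul_zero]
  · set d := (B a c)⁻¹ • c
    have hd : B a d = 1 := by rw [map_smul, smul_eq_mul, inv_mul_cancel₀ h]
    have h1 := H.ovoid hab hdim hb hN hT (hc.smul (inv_ne_zero h)) hd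
    have h2 : H.form hab hT hh d = 0 := by
      rw [H.form_apply hab hT, H.B_symm d a, hd, one_mul, h1, CharTwo.add_self_eq_zero]
    rw [show c = B a c • d from (smul_inv_smul₀ h c).symm, QuadraticMap.map_smul, h2, smul_zero]

end CfsgLib.Geometry.SpTwoOver
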