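import Mathlib
import Cfsg.Agent.Lib.Geometry.SpTwoOver.Ovoid

/-!
A two-group normalised by a point stabiliser consists of radical elements; a complement to the transvections gives
the standing hypotheses.
-/

set_option autoImplicit false
set_option linter.unusedSectionVars false

namespace CfsgLib.Geometry.SpTwoOver

open LinearMap (BilinForm)

variable {F V : Type*} [Field F] [AddCommGroup V] [Module F V] [CharP F 2] [FiniteDimensional F V] [Finite F]
variable {B : BilinForm F V}

/-- The elements congruent to the point line under the group. -/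
def fixMod (B : BilinForm F V) (a : V) (P : Subgroup (V ≃ₗ[F] V)) : Submodule F V where
  carrier := {x | B x a = 0 ∧ ∀ g ∈ P, g x - x ∈ Submodule.span F {a}}
  zero_mem' := ⟨by simp, fun g _ => by simp⟩
  add_mem' {x y} hx hy := ⟨by rw [map_add, LinearMap.add_apply, hx.1, hy.1, add_zero], fun g hg => by
    rw [map_add, add_sub_add_comm]; exact Submodule.add_mem _ (hx.2 g hg) (hy.2 g hg)⟩
  smul_mem' c x hx := ⟨by rw [map_smul, LinearMap.smul_apply, hx.1, smul_zero], fun g hg => by
    rw [map_smul, ← smul_sub]; exact Submodule.smul_mem _ c (hx.2 g hg)⟩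

variable (halt : B.IsAlt) (hnd : B.Nondegenerate) {a : V} (ha : a ≠ 0)
include halt hnd ha

theorem exists_fixMod {P : Subgroup (V ≃ₗ[F] V)} (hP : IsPGroup 2 P)
    (hfix : ∀ g ∈ P, g a = a) (hpres : ∀ g ∈ P, ∀ x y, B (g x) (g y) = B x y)
    {x0 : V} (hx0 : B x0 a = 0) (hx0n : x0 ∉ Submodule.span F {a}) :
    ∃ z ∈ fixMod B a P, z ∉ Submodule.span F {a} := by
  classical
  haveI : Finite V := Module.finite_of_finite F
  set A := Submodule.span F {a}
  set T : Submodule F V := LinearMap.ker (B.flip a)
  have hmem : ∀ x, x ∈ T ↔ B x a = 0 := fun x => by simp [T]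
  have hinv : ∀ g : P, T.map A.mkQ ≤ (T.map A.mkQ).comap
      (A.mapQ A (g : V ≃ₗ[F] V).toLinearMap (fun x hx => by
        obtain ⟨c, rfl⟩ := Submodule.mem_span_singleton.1 hx
        show (g : V ≃ₗ[F] V) (c • a) ∈ A
        rw [map_smul, hfix _ g.2]; exact hx)) := fun g => by
    rintro _ ⟨x, hx, rfl⟩
    refine ⟨(g : V ≃ₗ[F] V) x, ?_, rfl⟩
    have h := hpres _ g.2 x a
    rw [hfix _ g.2] at h
    exact (hmem _).2 (h.trans ((hmem _).1 hx))
  haveI : Finite (V ⧸ A) := Finite.of_surjective _ A.mkQ_surjective
  let W := ↥(T.map A.mkQ)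
  let act : MulAction P W :=
    { smul := fun g w => ⟨_, hinv g w.2⟩
      one_smul := fun w => by
        obtain ⟨_, x, -, rfl⟩ := w
        exact Subtype.ext rfl
      mul_smul := fun g h w => by
        obtain ⟨_, x, -, rfl⟩ := w
        exact Subtype.ext rfl }
  have hdvd : 2 ∣ Nat.card W := by
    haveI : Nontrivial W := ⟨⟨⟨A.mkQ x0, ⟨x0, (hmem _).2 hx0, rfl⟩⟩, 0, fun e => hx0n (by
      simpa [A] using congrArg Subtype.val e)⟩⟩
    haveI : Finite W := inferInstance
    obtain ⟨m, hm⟩ : ∃ m, Nat.card F = 2 ^ m := by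
      haveI := Fintype.ofFinite F
      obtain ⟨k, -, hk⟩ := FiniteField.card F 2
      exact ⟨k, by rw [Nat.card_eq_fintype_card, hk]⟩
    have hd : 0 < Module.finrank F W := Module.finrank_pos
    have hm0 : m ≠ 0 := fun e => by
      have := Finite.one_lt_card (α := F)
      rw [hm, e] at this; simp at this
    rw [Module.natCard_eq_pow_finrank (K := F) (V := W), hm, ← pow_mul]
    exact dvd_pow_self 2 (Nat.mul_ne_zero hm0 hd.ne')
  haveI : Fact (Nat.Prime 2) := ⟨Nat.prime_two⟩
  obtain ⟨w, hw, hne⟩ := hP.exists_fixed_point_of_prime_dvd_card_of_fixed_point W hdvd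
    (a := (0 : W)) (fun g => Subtype.ext (map_zero (A.mapQ A (g : V ≃ₗ[F] V).toLinearMap _)))
  obtain ⟨_, x, hx, rfl⟩ := w
  refine ⟨x, ⟨(hmem _).1 hx, fun g hg => ?_⟩, fun hm => hne (Subtype.ext ?_)⟩
  · exact (Submodule.Quotient.eq A).1 (congrArg Subtype.val (hw ⟨g, hg⟩))
  · exact ((Submodule.Quotient.mk_eq_zero A).2 hm).symm

theorem el_of_two {P : Subgroup (V ≃ₗ[F] V)} (hP : IsPGroup 2 P)
    (hfix : ∀ g ∈ P, g a = a) (hpres : ∀ g ∈ P, ∀ x y, B (g x) (g y) = B x y)
    (hnorm : ∀ h : V ≃ₗ[F] V, (∀ x y, B (h x) (h y) = B x y) → h a = a → ∀ g ∈ P, h * g * h⁻¹ ∈ P)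
    {g : V ≃ₗ[F] V} (hg : g ∈ P) :
    ∃ w k, B w a = 0 ∧ ∀ x, g x = x + B x a • w + (B x w + k * B x a) • a := by
  have sy := symm' halt
  -- the congruence holds on the whole perp
  have hall : ∀ x, B x a = 0 → g x - x ∈ Submodule.span F {a} := by
    intro x hx
    by_cases hxn : x ∈ Submodule.span F {a}
    · obtain ⟨c, rfl⟩ := Submodule.mem_span_singleton.1 hxn
      rw [map_smul, hfix g hg, sub_self]; exact zero_mem _
    obtain ⟨z, hz, hzn⟩ := exists_fixMod halt hnd ha hP hfix hpres hx hxn
    have key : ∀ y z, z ∈ fixMod B a P → B y a = 0 → B z y ≠ 0 → y ∈ fixMod B a P := by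
      intro y z hz hy hzy
      obtain ⟨d, hd'⟩ : ∃ d, d = z + y := ⟨_, rfl⟩
      let c := (B z y)⁻¹
      have hd : B d d = 0 := halt d
      let f : V →ₗ[F] V := LinearMap.id + c • LinearMap.smulRight (B.flip d) d
      have hf : ∀ v, f v = v + (c * B v d) • d := fun v => by
        simp [f, smul_smul]
      have hff : ∀ v, f (f v) = v := fun v => by
        rw [hf, hf, map_add, map_smul, LinearMap.add_apply, LinearMap.smul_apply, hd, smul_zero, add_zero, add_assoc,
          add_self F, add_zero]
      let t : V ≃ₗ[F] V := LinearEquiv.ofLinearMap f f (LinearMap.ext hff) (LinearMap.ext hff)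
      have ht : ∀ v, t v = v + (c * B v d) • d := hf
      have hta : t a = a := by
        rw [ht, sy a d, show B d a = 0 by simp [hd', hz.1, hy], mul_zero, zero_smul, add_zero]
      have htp : ∀ u v, B (t u) (t v) = B u v := fun u v => by
        rw [ht, ht]
        simp only [map_add, map_smul, LinearMap.add_apply, LinearMap.smul_apply, smul_eq_mul, hd, sy d v]
        linear_combination (c * B u d * B v d) * CharTwo.two_eq_zero (R := F)
      have htz : t z = y := by
        rw [ht, show B z d = B z y by simp [hd', halt z], inv_mul_cancel₀ hzy, one_smul, hd', ← add_assoc, add_self F,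
          zero_add]
      refine ⟨hy, fun g' hg' => ?_⟩
      have h1 := hz.2 _ (hnorm t⁻¹ (fun u v => by
        conv_rhs => rw [← t.apply_symm_apply u, ← t.apply_symm_apply v, htp]
        rfl) (t.injective (by rw [hta]; exact t.apply_symm_apply a)) g' hg')
      obtain ⟨s, hs⟩ := Submodule.mem_span_singleton.1 h1
      have h2 := congrArg t hs
      rw [map_smul, hta, map_sub, htz] at h2
      refine Submodule.mem_span_singleton.2 ⟨s, h2.trans ?_⟩
      congr 1
      show t (t.symm (g' (t z))) = _
      rw [t.apply_symm_apply, htz]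
    obtain ⟨e, he, hez, hex⟩ := exists_perp₂ (σ := RingHom.id F) Function.surjective_id _ hnd.1
      (Submodule.span F {a}) hzn hxn
    have hea : B e a = 0 := he a (Submodule.mem_span_singleton_self a)
    exact (key x e (key e z hz hea (by rw [sy]; exact hez)) hx hex).2 g hg
  obtain ⟨b, -, hab⟩ := exists_perp (σ := RingHom.id F) Function.surjective_id _ hnd.1 ⊥ (x := a)
    (by simpa using ha) 1
  have hb1 : B (g b) a = 1 := by
    have h := hpres g hg b a
    rw [hfix g hg, hab] at h; exact h
  set w := g b + b
  refine ⟨w, B b w, by simp [w, hb1, hab, CharTwo.add_self_eq_zero], fun x => ?_⟩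
  set x0 := x + B x a • b
  have hx0 : B x0 a = 0 := by simp [x0, hab, CharTwo.add_self_eq_zero]
  obtain ⟨l, hl⟩ := Submodule.mem_span_singleton.1 (hall x0 hx0)
  have hgx : g x0 = x0 + l • a := by rw [hl]; abel
  have hgb : g b = b + w := by
    simp only [w]
    linear_combination (norm := module) -(add_self F b)
  have hl' : l = B x0 w := by
    have h := hpres g hg x0 b
    rw [hgx, hgb] at h
    have hwa : B a w = 0 := by rw [sy]; simp [w, hb1, hab, CharTwo.add_self_eq_zero]
    simp only [map_add, map_smul, LinearMap.add_apply, LinearMap.smul_apply, smul_eq_mul, sy a b, hab, hwa] at h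
    linear_combination h - B x0 w * CharTwo.two_eq_zero (R := F)
  have hx : x = x0 + B x a • b := by
    simp only [x0]
    linear_combination (norm := module) -(add_self F (B x a • b))
  conv_lhs => rw [hx, map_add, map_smul, hgx, hgb]
  rw [hl', show B x w + B b w * B x a = B x0 w by
    simp only [x0, map_add, map_smul, LinearMap.add_apply, LinearMap.smul_apply, smul_eq_mul]; ring]
  conv_rhs => rw [hx]
  rw [smul_add]
  simp only [x0, map_add, map_smul, LinearMap.add_apply, LinearMap.smul_apply, smul_eq_mul, hab]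
  match_scalars <;> first
    | ring1
    | linear_combination (-(B x a)) * CharTwo.two_eq_zero (R := F)
    | linear_combination (B x a) * CharTwo.two_eq_zero (R := F)

/-- A group of radical elements without transvections of full order gives every direction once. -/
theorem sel_of_card {X : Subgroup (V ≃ₗ[F] V)} {n : ℕ} (hdim : Module.finrank F V = n + 2)
    (hc : Nat.card X = Nat.card F ^ n)
    (he : ∀ g ∈ X, ∃ w k, B w a = 0 ∧ ∀ x, g x = x + B x a • w + (B x w + k * B x a) • a)
    (hno : ∀ g ∈ X, ∀ k : F, k ≠ 0 → ¬ ∀ x, g x = x + (k * B x a) • a)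
    {L : Subgroup (V ≃ₗ[F] V)} (hXL : X ≤ L) : Pt B L a ∧ HasSel B L a := by
  classical
  have sy := symm' halt
  haveI : Finite V := Module.finite_of_finite F
  choose w k hwa hwk using fun g : X => he g g.2
  -- an element is fixed by its direction
  have huniq : ∀ (g g' : X) (t : F), w g' = w g + t • a → g = g' ∧ k g = k g' := by
    intro g g' t ht
    have hgg : ∀ x, ((g * g' : X) : V ≃ₗ[F] V) x = x + ((k g + k g' + B (w g) (w g')) * B x a) • a := fun x => by
      show (g : V ≃ₗ[F] V) ((g' : V ≃ₗ[F] V) x) = _
      rw [hwk, hwk, ht]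
      simp only [map_add, map_smul, LinearMap.add_apply, LinearMap.smul_apply, smul_eq_mul, halt a, halt (w g),
        hwa g, sy a (w g)]
      have h2 := CharTwo.two_eq_zero (R := F)
      match_scalars
      all_goals first
        | ring1
        | linear_combination (B x a) * h2
        | linear_combination (B x w g + t * B x a) * h2
        | linear_combination (B x (w g)) * h2
        | linear_combination (t * B x a) * h2
        | linear_combination (B x (w g) + t * B x a) * h2
    have hk0 : k g + k g' + B (w g) (w g') = 0 := by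
      by_contra h
      exact hno _ (g * g').2 _ h hgg
    have hww : B (w g) (w g') = 0 := by rw [ht, map_add, map_smul, halt (w g), hwa g, smul_zero, add_zero]
    rw [hww, add_zero] at hk0
    have hk : k g = k g' := CharTwo.add_eq_zero.1 hk0
    refine ⟨Subtype.ext (LinearEquiv.ext fun x => ?_), hk⟩
    rw [hwk, hwk, ht, hk, smul_add, map_add, map_smul, smul_eq_mul]
    linear_combination (norm := module) -(add_self F ((t * B x a) • a))
  set A := Submodule.span F {a}
  set T : Submodule F V := LinearMap.ker (B.flip a)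
  have hmem : ∀ x, x ∈ T ↔ B x a = 0 := fun x => by simp [T]
  have hAT : A ≤ T := (Submodule.span_singleton_le_iff_mem _ _).2 ((hmem a).2 (halt a))
  haveI : Finite (V ⧸ A) := Finite.of_surjective _ A.mkQ_surjective
  let φ : X → ↥(T.map A.mkQ) := fun g => ⟨A.mkQ (w g), _, (hmem _).2 (hwa g), rfl⟩
  have hinj : Function.Injective φ := fun g g' h => by
    have h' : A.mkQ (w g') = A.mkQ (w g) := (congrArg Subtype.val h).symm
    obtain ⟨t, ht⟩ := Submodule.mem_span_singleton.1 ((Submodule.Quotient.eq A).1 h')
    exact (huniq g g' t (by rw [ht]; abel)).1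
  have hsurj : Function.Surjective φ := by
    refine (hinj.bijective_of_nat_card_le (le_of_eq ?_)).2
    have h1 : Module.finrank F T + 1 = n + 2 := by
      have h := LinearMap.finrank_range_add_finrank_ker (B.flip a)
      have hr : LinearMap.range (B.flip a) = ⊤ := LinearMap.range_eq_top.2 fun c => by
        obtain ⟨b, -, hab⟩ := exists_perp (σ := RingHom.id F) Function.surjective_id _ hnd.1 ⊥ (x := a)
          (by simpa using ha) 1
        exact ⟨c • b, by simp [hab]⟩
      rw [hr, finrank_top, Module.finrank_self, hdim] at h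
      change 1 + Module.finrank F T = _ at h
      omega
    have h2 : Module.finrank F ↥(T.map A.mkQ) + 1 = Module.finrank F T := by
      have h := LinearMap.finrank_range_add_finrank_ker (A.mkQ.comp T.subtype)
      rw [LinearMap.range_comp, Submodule.range_subtype, LinearMap.ker_comp, Submodule.ker_mkQ,
        (Submodule.comapSubtypeEquivOfLe hAT).finrank_eq] at h
      rwa [finrank_span_singleton ha] at h
    rw [hc, Module.natCard_eq_pow_finrank (K := F) (V := ↥(T.map A.mkQ))]
    congr 1
    omega
  have hex : ∀ v, B v a = 0 → ∃ (g : X) (t : F), w g = v + t • a := fun v hv => by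
    obtain ⟨g, hg⟩ := hsurj ⟨A.mkQ v, v, (hmem _).2 hv, rfl⟩
    obtain ⟨t, ht⟩ := Submodule.mem_span_singleton.1 ((Submodule.Quotient.eq A).1 (congrArg Subtype.val hg))
    exact ⟨g, t, by rw [ht]; abel⟩
  choose G t hGt using hex
  let l : V → F := fun v => if hv : B v a = 0 then k (G v hv) else 0
  have hl : ∀ v, B v a = 0 → El B L a v (l v) := fun v hv => by
    have h : El B L a (w (G v hv)) (k (G v hv)) := ⟨_, hXL (G v hv).2, hwk _⟩
    have h2 := h.add_pt (t v hv)
    rw [hGt v hv, add_assoc, add_self F, add_zero] at h2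
    simpa [l, hv] using h2
  refine ⟨fun v hv => ⟨_, hl v hv⟩, l, hl, fun v v' hv hv' => ?_⟩
  have hvv : B (v + v') a = 0 := by rw [map_add, LinearMap.add_apply, hv, hv', add_zero]
  simp only [l, dif_pos hv, dif_pos hv', dif_pos hvv]
  set g := G v hv
  set g' := G v' hv'
  have hmul : ∀ x, ((g * g' : X) : V ≃ₗ[F] V) x =
      x + B x a • (w g + w g') + (B x (w g + w g') + (k g + k g' + B (w g) (w g')) * B x a) • a := fun x => by
    show (g : V ≃ₗ[F] V) ((g' : V ≃ₗ[F] V) x) = _
    rw [hwk, hwk]
    simp only [map_add, map_smul, LinearMap.add_apply, LinearMap.smul_apply, smul_eq_mul, halt a, hwa g, hwa g',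
      sy a (w g), sy (w g') (w g)]
    match_scalars <;> ring
  -- compare the product with the chosen element
  set h := G (v + v') hvv
  have key : ∀ x, x + B x a • w (g * g') + (B x (w (g * g')) + k (g * g') * B x a) • a =
      x + B x a • (w g + w g') + (B x (w g + w g') + (k g + k g' + B (w g) (w g')) * B x a) • a := fun x =>
    (hwk _ x).symm.trans (hmul x)
  obtain ⟨b, -, hab⟩ := exists_perp (σ := RingHom.id F) Function.surjective_id _ hnd.1 ⊥ (x := a)
    (by simpa using ha) 1
  have kb := key b
  rw [hab, one_smul, mul_one, one_smul, mul_one] at kb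
  have hw' : w (g * g') = w g + w g' + ((B b (w g + w g') + (k g + k g' + B (w g) (w g'))) +
      (B b (w (g * g')) + k (g * g'))) • a := by
    linear_combination (norm := module) kb - add_self F ((B b (w (g * g')) + k (g * g')) • a)
  set s := (B b (w g + w g') + (k g + k g' + B (w g) (w g'))) + (B b (w (g * g')) + k (g * g'))
  have hks : k (g * g') = k g + k g' + B (w g) (w g') := by
    obtain ⟨u, -, hu1, -⟩ := exists_perp₂ (σ := RingHom.id F) Function.surjective_id _ hnd.1 ⊥ (x := a) (y := a)
      (by simpa using ha) (by simpa using ha)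
    have ku := key u
    rw [hw', map_add (B u) (w g + w g'), map_smul, smul_eq_mul] at ku
    have e : (B u a * (k (g * g') + (k g + k g' + B (w g) (w g')))) • a = 0 := by
      linear_combination (norm := module) ku - add_self F ((s * B u a) • a) +
        add_self F ((B u a * (k g + k g' + B (w g) (w g'))) • a)
    rcases smul_eq_zero.1 e with e | e
    · exact CharTwo.add_eq_zero.1 ((mul_eq_zero.1 e).resolve_left hu1)
    · exact absurd e ha
  obtain ⟨-, hk⟩ := huniq h (g * g') (t v hv + t v' hv' + s + t (v + v') hvv) (by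
    rw [hw', show w g = _ from hGt v hv, show w g' = _ from hGt v' hv', show w h = _ from hGt (v + v') hvv]
    linear_combination (norm := module) -(add_self F (t (v + v') hvv • a)))
  rw [hk, hks, show w g = _ from hGt v hv, show w g' = _ from hGt v' hv']
  congr 1
  simp [halt a, hv, sy a v', hv']

end CfsgLib.Geometry.SpTwoOver
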