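import Cfsg.Agent.Lib.Geometry.SpTwoOver.Value

/-!
A value along a line in four dimensions over two elements makes the group transitive and large.
-/

set_option autoImplicit false
set_option linter.unusedSectionVars false

namespace CfsgLib.Geometry.SpTwoOver

open LinearMap (BilinForm)

/-- Addition of codes. -/
def cadd (c d : Fin 16) : Fin 16 := ⟨(c.val ^^^ d.val) % 16, Nat.mod_lt _ (by omega)⟩

/-- A bit of a code. -/
def cbit (c : Fin 16) (i : ℕ) : Bool := c.val.testBit i

/-- The form on codes. -/
def cform (c d : Fin 16) : Bool :=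
  ((cbit c 0 && cbit d 1) ^^ (cbit c 1 && cbit d 0)) ^^ ((cbit c 2 && cbit d 3) ^^ (cbit c 3 && cbit d 2))

/-- One step of the closure. -/
def cstep (S : Finset (Fin 16)) : Finset (Fin 16) :=
  S ∪ ((S ×ˢ S).filter fun p => p.1 ≠ p.2 ∧ cform p.1 p.2 = false).image fun p => cadd p.1 p.2

theorem closure_codes : ∀ (e : Bool) (c : Fin 16), c ≠ 0 →
    c ∈ cstep (cstep (cstep ({1, 2, 4, 5, 7, if e then 11 else 10} : Finset (Fin 16)))) := by decide +kernel

theorem cbit_cadd : ∀ (c d : Fin 16) (i : Fin 4), cbit (cadd c d) i.val = (cbit c i.val ^^ cbit d i.val) := by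
  decide +kernel

variable {F V : Type*} [Field F] [AddCommGroup V] [Module F V] [CharP F 2] [FiniteDimensional F V]
variable {B : BilinForm F V} {L : Subgroup (V ≃ₗ[F] V)} {a : V}

/-- A bit as a scalar. -/
def bf (F : Type*) [Zero F] [One F] (x : Bool) : F := if x then 1 else 0

theorem bf_xor (x y : Bool) : bf F (x ^^ y) = bf F x + bf F y := by
  cases x <;> cases y <;> simp [bf, CharTwo.add_self_eq_zero]

theorem bf_and (x y : Bool) : bf F (x && y) = bf F x * bf F y := by
  cases x <;> cases y <;> simp [bf]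

theorem eq_one_of_ne [Fintype F] (h2 : Fintype.card F = 2) {x : F} (hx : x ≠ 0) : x = 1 := by
  classical
  by_contra h
  have h3 : ({0, 1, x} : Finset F).card = 3 := by
    rw [Finset.card_insert_of_notMem (by simp [hx.symm]),
      Finset.card_insert_of_notMem (by simpa using (Ne.symm h)), Finset.card_singleton]
  have := ({0, 1, x} : Finset F).card_le_univ
  omega

variable [Fintype F] (H : Orb B L a) (h2 : Fintype.card F = 2) (hdim : Module.finrank F V = 4)
  (hT : ∀ p, On L a p → ¬ Tr B L p)
include H h2 hdim hT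

set_option maxHeartbeats 1600000 in
theorem Orb.transitive_small {r : V} (hr : On L a r) (har : B r a = 0) (hn : r ∉ Submodule.span F {a})
    (hel : El B L a r 1) {v : V} (hv : v ≠ 0) : On L a v := by
  classical
  obtain ⟨b, hb, hab⟩ := H.exists_nonperp
  have hsum : ∀ {p r : V}, On L a p → On L a r → p ≠ r → B p r = 0 → On L a (p + r) := by
    intro p r hp hr hne hpr
    obtain ⟨g, hg, -, gr⟩ := (H.base hp).on_line (r := r) (hp.symm.trans hr) (by rw [H.B_symm]; exact hpr) (fun hm => by
      obtain ⟨c, rfl⟩ := Submodule.mem_span_singleton.1 hm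
      refine hne ?_
      rw [eq_one_of_ne h2 (x := c) (fun e => H.ne' hr (by rw [e, zero_smul])), one_smul]) 1
    have h := hr.map hg
    rwa [gr, one_smul, add_comm] at h
  set z := proj B a b r
  have hz : InW B a b z := H.proj_mem hab r
  have hd : r = z + B r b • a := by
    have h := proj_decomp (B := B) (a := a) (b := b) r
    rwa [har, zero_smul, add_zero] at h
  have hz0 : z ≠ 0 := fun e => hn (by
    rw [hd, e, zero_add]; exact Submodule.smul_mem _ _ (Submodule.mem_span_singleton_self a))
  have hza : z ≠ a := fun e => by have := hz.2; rw [e, hab] at this; exact one_ne_zero this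
  have hzl : On L a z ∧ On L a (a + z) := by
    rcases eq_or_ne (B r b) 0 with h0 | h0
    · rw [h0, zero_smul, add_zero] at hd
      rw [hd] at hr
      exact ⟨hr, hsum (On.refl a) hr hza.symm (by rw [H.B_symm]; exact hz.1)⟩
    · rw [eq_one_of_ne h2 h0, one_smul, add_comm] at hd
      rw [hd] at hr
      have h := hsum (On.refl a) hr (fun e => hz0 (by simpa using e.symm)) (by rw [map_add, H.alt a, H.B_symm, hz.1, add_zero])
      rw [← add_assoc, add_self F, zero_add] at h
      exact ⟨h, hr⟩
  obtain ⟨x, -, hxz⟩ := exists_perp (σ := RingHom.id F) Function.surjective_id _ H.nd.1 ⊥ (x := z)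
    (by simpa using hz0) 1
  set g := proj B a b x
  have hg : InW B a b g := H.proj_mem hab x
  have hzg : B z g = 1 := by simp [g, proj, hz.1, hz.2, H.B_symm z x, hxz]
  let φ : Fin 16 → V := fun c =>
    bf F (cbit c 0) • a + bf F (cbit c 1) • b + bf F (cbit c 2) • z + bf F (cbit c 3) • g
  have hB : ∀ c d, B (φ c) (φ d) = bf F (cform c d) := fun c d => by
    simp only [φ, cform, bf_xor, bf_and, map_add, map_smul, LinearMap.add_apply, LinearMap.smul_apply, smul_eq_mul,
      H.alt a, H.alt b, H.alt z, H.alt g, hab, H.ba hab, hzg, H.B_symm g z, H.B_symm a z, H.B_symm b z,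
      H.B_symm a g, H.B_symm b g, hz.1, hz.2, hg.1, hg.2]
    ring
  have hadd : ∀ c d, φ (cadd c d) = φ c + φ d := fun c d => by
    simp only [φ]
    have h0 := cbit_cadd c d 0
    have h1 := cbit_cadd c d 1
    have h2 := cbit_cadd c d 2
    have h3 := cbit_cadd c d 3
    simp only [Fin.val_zero, Fin.val_one, Fin.val_two, show ((3 : Fin 4) : ℕ) = 3 from rfl] at h0 h1 h2 h3
    rw [h0, h1, h2, h3, bf_xor, bf_xor, bf_xor, bf_xor]
    module
  have hphi0 : ∀ c, φ c = 0 → c = 0 := by
    intro c hc
    have ea : bf F (cbit c 0) = 0 := by simpa [φ, H.alt b, hab, hz.2, hg.2] using congrArg (fun v => B v b) hc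
    have eb : bf F (cbit c 1) = 0 := by simpa [φ, H.alt a, H.ba hab, hz.1, hg.1] using congrArg (fun v => B v a) hc
    have eg : bf F (cbit c 3) = 0 := by
      simpa [φ, H.alt z, H.B_symm a z, H.B_symm b z, hz.1, hz.2, H.B_symm g z, hzg] using congrArg (fun v => B v z) hc
    have ez : bf F (cbit c 2) = 0 := by
      simpa [φ, H.alt g, H.B_symm a g, H.B_symm b g, hg.1, hg.2, hzg] using congrArg (fun v => B v g) hc
    have hb0 : ∀ x : Bool, bf F x = 0 → x = false := fun x => by cases x <;> simp [bf]
    have : ∀ c : Fin 16, cbit c 0 = false → cbit c 1 = false → cbit c 2 = false → cbit c 3 = false → c = 0 := by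
      decide +kernel
    exact this c (hb0 _ ea) (hb0 _ eb) (hb0 _ ez) (hb0 _ eg)
  have hinj : Function.Injective φ := fun c d h => by
    have h0 := hphi0 _ ((hadd c d).trans (by rw [h, add_self F]))
    have : ∀ c d : Fin 16, cadd c d = 0 → c = d := by decide +kernel
    exact this c d h0
  have hbase : ∀ c ∈ ({1, 2, 4, 5, 7, if decide (val B L a g = 1) then 11 else 10} : Finset (Fin 16)), On L a (φ c) := by
    intro c hc
    simp only [Finset.mem_insert, Finset.mem_singleton] at hc
    rcases hc with rfl | rfl | rfl | rfl | rfl | rfl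
    · simpa [φ, cbit, bf, Nat.testBit] using On.refl (L := L) a
    · simpa [φ, cbit, bf, Nat.testBit] using hb
    · simpa [φ, cbit, bf, Nat.testBit] using hzl.1
    · simpa [φ, cbit, bf, Nat.testBit] using hzl.2
    · have hz2 : B b z = 0 := by rw [H.B_symm]; exact hz.2
      have h := H.move hab hel hb
      rw [hd, map_add, map_smul, hz2, H.ba hab, smul_eq_mul, mul_one, zero_add] at h
      have e : b + (z + B r b • a) + (B r b + 1) • a = a + b + z := by
        linear_combination (norm := module) (B r b) • add_self F a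
      rw [e] at h
      simpa [φ, cbit, bf, Nat.testBit] using h
    · have h := H.image hab hb hT hg
      by_cases hv1 : val B L a g = 1
      · rw [if_pos (decide_eq_true hv1)]
        rw [hv1, one_smul] at h
        simpa [φ, cbit, bf, Nat.testBit, add_comm, add_left_comm, add_assoc] using h
      · rw [if_neg (by simpa using hv1)]
        have h0 : val B L a g = 0 := by
          by_contra hne
          exact hv1 (eq_one_of_ne h2 hne)
        rw [h0, zero_smul, add_zero] at h
        simpa [φ, cbit, bf, Nat.testBit] using h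
  have hstep : ∀ S : Finset (Fin 16), (∀ c ∈ S, On L a (φ c)) → ∀ c ∈ cstep S, On L a (φ c) := by
    intro S hS c hc
    rcases Finset.mem_union.1 hc with hc | hc
    · exact hS c hc
    obtain ⟨⟨d, e⟩, hde, rfl⟩ := Finset.mem_image.1 hc
    simp only [Finset.mem_filter, Finset.mem_product] at hde
    rw [hadd]
    exact hsum (hS d hde.1.1) (hS e hde.1.2) (fun h => hde.2.1 (hinj h)) (by rw [hB, hde.2.2]; rfl)
  haveI : Finite V := Module.finite_of_finite F
  haveI := Fintype.ofFinite V
  have hbij : Function.Bijective φ := (Fintype.bijective_iff_injective_and_card _).2 ⟨hinj, by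
    rw [Module.card_eq_pow_finrank (K := F) (V := V), h2, hdim, Fintype.card_fin]; rfl⟩
  obtain ⟨c, rfl⟩ := hbij.2 v
  refine hstep _ (hstep _ (hstep _ hbase)) c (closure_codes _ c fun e => hv ?_)
  rw [e]; simp [φ, cbit, bf]

theorem Orb.card_small {r : V} (hr : On L a r) (har : B r a = 0) (hn : r ∉ Submodule.span F {a})
    (hel : El B L a r 1) (X : Subgroup (V ≃ₗ[F] V)) (hXL : X ≤ L) (hXc : Nat.card X = 4)
    (hXe : ∀ x ∈ X, ∃ (w : V) (k : F), B w a = 0 ∧ ∀ v, x v = v + B v a • w + (B v w + k * B v a) • a) :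
    ∃ k, Nat.card L = 15 * k ∧ 4 ∣ k ∧ 4 < k := by
  classical
  haveI : Finite V := Module.finite_of_finite F
  haveI : Finite (V ≃ₗ[F] V) := Finite.of_injective (fun g => (g : V → V)) DFunLike.coe_injective
  set S : Subgroup L := MulAction.stabilizer L a with hSdef
  have horb : MulAction.orbit L a = {v : V | v ≠ 0} := by
    ext v
    refine ⟨?_, fun hv => ?_⟩
    · rintro ⟨g, rfl⟩
      exact fun e => H.ne ((g : V ≃ₗ[F] V).map_eq_zero_iff.1 e)
    · obtain ⟨g, hg, c, hc, rfl⟩ := H.transitive_small h2 hdim hT hr har hn hel hv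
      refine ⟨⟨g, hg⟩, ?_⟩
      rw [eq_one_of_ne h2 hc, one_smul]
      rfl
  have h15 : S.index = 15 := by
    rw [hSdef, MulAction.index_stabilizer, horb, show {v : V | v ≠ 0} = ({0} : Set V)ᶜ from rfl, Set.ncard_compl,
      Set.ncard_singleton, Module.natCard_eq_pow_finrank (K := F) (V := V), Nat.card_eq_fintype_card, h2, hdim]
    norm_num
  have hXS : X.subgroupOf L ≤ S := by
    intro x hx
    obtain ⟨w, k, hw, hx'⟩ := hXe _ hx
    show (x : V ≃ₗ[F] V) a = a
    have h : (x : V ≃ₗ[F] V) a = _ := hx' a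
    rw [h, H.alt a, H.B_symm a w, hw]; simp
  -- an element of the stabiliser outside the radical
  obtain ⟨k0, hk0⟩ := (H.base hr).pt a (by rw [H.B_symm, har])
  obtain ⟨g, hg, eg⟩ := hk0
  have hgS : (⟨g, hg⟩ : L) ∈ S := by
    show g a = a
    rw [eg, H.B_symm a r, har, H.alt a]; simp
  have hk1 : k0 = 1 := by
    refine eq_one_of_ne h2 fun h0 => hT a (On.refl a) ?_
    have h : El B L a r 0 := ⟨g, hg, fun x => by rw [eg, h0]; module⟩
    have h1 := h.mul H.alt har har hel
    rw [add_self F, zero_add, H.alt r, add_zero] at h1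
    exact ⟨1, one_ne_zero, h1⟩
  have hgX : (⟨g, hg⟩ : L) ∉ X.subgroupOf L := by
    intro hm
    obtain ⟨w, k, hw, hx'⟩ := hXe g hm
    obtain ⟨y, hy, hyr⟩ := exists_perp (σ := RingHom.id F) Function.surjective_id _ H.nd.1 (Submodule.span F {a}) hn 1
    have hya : B y a = 0 := hy a (Submodule.mem_span_singleton_self a)
    have e := (hx' y).symm.trans (eg y)
    rw [hya, hyr, hk1, zero_smul, add_zero, one_smul, mul_zero, add_zero, zero_add, mul_one, one_smul] at e
    refine hn (Submodule.mem_span_singleton.2 ⟨B y w + 1, ?_⟩)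
    linear_combination (norm := module) e + add_self F a
  have hlt : X.subgroupOf L < S := lt_of_le_of_ne hXS fun e => hgX (e ▸ hgS)
  have hc4 : Nat.card (X.subgroupOf L) = 4 := by rw [Nat.card_congr (Subgroup.subgroupOfEquivOfLe hXL).toEquiv, hXc]
  refine ⟨Nat.card S, ?_, hc4 ▸ Subgroup.card_dvd_of_le hXS, ?_⟩
  · rw [← S.card_mul_index, h15, mul_comm]
  · rw [← hc4]
    exact Set.Finite.card_lt_card (Set.toFinite _) hlt

end CfsgLib.Geometry.SpTwoOver
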