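import Cfsg.Agent.Lib.Geometry.SpTwoOver.Zero
import Cfsg.Agent.Lib.Geometry.SpTwoOver.Omega
import Cfsg.Agent.Lib.Geometry.SpTwoOver.Small
import Cfsg.Agent.Lib.Geometry.SpTwoOver.Radical

/-!
The three possibilities for an irreducible group containing the radical elements modulo transvections.
-/

set_option autoImplicit false
set_option linter.unusedSectionVars false

namespace CfsgLib.Geometry.SpTwoOver

open LinearMap (BilinForm)

variable {F V : Type*} [Field F] [Fintype F] [AddCommGroup V] [Module F V] [CharP F 2] [FiniteDimensional F V]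
variable {B : BilinForm F V} {L : Subgroup (V ≃ₗ[F] V)} {a : V}

/-- The conclusion for orthogonal groups. -/
def IsOrthCase (B : BilinForm F V) (L : Subgroup (V ≃ₗ[F] V)) : Prop :=
  ∃ Q : QuadraticForm F V, (∀ x y, QuadraticMap.polar Q x y = B x y) ∧
    (L = orth Q ∨ ∀ g, g ∈ L ↔ g ∈ orth Q ∧ dickson g = 0)

theorem Orb.classify (H : Orb B L a) (hsel : HasSel B L a) {n : ℕ} (hn : 2 ≤ n) (hdim : Module.finrank F V = 2 * n)
    {X : Subgroup (V ≃ₗ[F] V)} (hXL : X ≤ L) (hXc : Nat.card X = Nat.card F ^ (2 * n - 2))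
    (hXe : ∀ x ∈ X, ∃ (w : V) (k : F), B w a = 0 ∧ ∀ v, x v = v + B v a • w + (B v w + k * B v a) • a) :
    (∀ c, Full B L c) ∨ IsOrthCase B L ∨
      (Fintype.card F = 2 ∧ n = 2 ∧ ∃ k, Nat.card L = 15 * k ∧ 4 ∣ k ∧ 4 < k) := by
  classical
  by_cases hf : Full B L a
  · exact Or.inl (H.full_all hf)
  obtain ⟨b, hb, hab⟩ := H.exists_nonperp
  have hd4 : 4 ≤ Module.finrank F V := by omega
  have hbase : ∀ {Q : QuadraticForm F V}, (∀ x y, QuadraticMap.polar Q x y = B x y) → (∀ c, On L a c → Q c = 0) →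
      IsOrthCase B L := fun {Q} hp hs => ⟨Q, hp, H.final hp hs hd4⟩
  by_cases hpair : ∃ r, On L a r ∧ B r a = 0 ∧ r ∉ Submodule.span F {a}
  · obtain ⟨r, hr, har, hrn⟩ := hpair
    have hT : ∀ p, On L a p → ¬ Tr B L p := by
      intro p hp htr
      obtain ⟨g, hg, c, hc, rfl⟩ := id hp
      refine hf (H.full_of_on ((H.base hp).full_of_tr (r := g r) (hp.symm.trans (hr.map hg)) ?_ ?_ htr) hp)
      · rw [map_smul, H.pres g hg, har, smul_zero]
      · intro hm
        obtain ⟨s, hs⟩ := Submodule.mem_span_singleton.1 hm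
        exact hrn (Submodule.mem_span_singleton.2 ⟨s * c, g.injective (by rw [map_smul, ← smul_smul, hs])⟩)
    by_cases hS : Flat B L a
    · obtain ⟨z, hz, hz0, hzl⟩ := H.exists_zero hab hb hT hS hr har hrn
      have hh := H.hom2_of_zero hab hb hT hS hz hz0 hzl
      exact Or.inr (Or.inl (hbase (H.form_polar hab hT hh) fun c hc =>
        H.singular_of_zero hab hb hT hS hh hz hz0 hzl hc))
    · refine Or.inr (Or.inr ?_)
      simp only [Flat, not_forall] at hS
      obtain ⟨p, r', hp, hr', hpr, hrn', s, hne⟩ := hS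
      have Hp := H.base hp
      have hel : El B L p (s • r') (val B L p (s • r')) :=
        H.el_val hT hp (by rw [map_smul, LinearMap.smul_apply, hpr, smul_zero])
      have hsz : ¬ (6 ≤ Module.finrank F V ∨ ∃ t : F, t ≠ 0 ∧ t ≠ 1) := fun hsz =>
        hT p hp (Hp.tr_of_value (hp.symm.trans hr') hpr hrn' hsz hne hel)
      push Not at hsz
      have hn2 : n = 2 := by omega
      have h2 : Fintype.card F = 2 := by
        have hU : (Finset.univ : Finset F) = {0, 1} := Finset.eq_of_subset_of_card_le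
          (fun t _ => by
            rcases eq_or_ne t 0 with rfl | ht
            · simp
            · simp [hsz.2 t ht])
          (Finset.card_le_univ _) |>.symm |>.symm
        rw [← Finset.card_univ, hU, Finset.card_pair zero_ne_one]
      have hs1 : s = 1 := eq_one_of_ne h2 fun e => hne (by rw [e, zero_smul, H.val_zero hT hp])
      rw [hs1, one_smul] at hel hne
      rw [eq_one_of_ne h2 hne] at hel
      obtain ⟨g, hg, c, hc, rfl⟩ := hp
      rw [eq_one_of_ne h2 hc, one_smul] at hel hpr hrn'
      have hg' : g⁻¹ ∈ L := inv_mem hg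
      have hel' := hel.conj H.pres hg'
      rw [show g⁻¹ (g a) = a from g.symm_apply_apply a] at hel'
      refine ⟨h2, hn2, H.card_small h2 (by omega) hT (hr'.map hg') ?_ ?_ hel' X hXL ?_ hXe⟩
      · have h := H.pres g hg (g⁻¹ r') a
        rw [show g (g⁻¹ r') = r' from g.apply_symm_apply r', hpr] at h
        exact h.symm
      · intro hm
        obtain ⟨t, ht⟩ := Submodule.mem_span_singleton.1 hm
        refine hrn' (Submodule.mem_span_singleton.2 ⟨t, ?_⟩)
        rw [← map_smul, ht]; exact g.apply_symm_apply r'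
      · rw [hXc, Nat.card_eq_fintype_card, h2, hn2]; norm_num
  · have hN : Lonely B L a := by
      intro p r hp hr hpr
      obtain ⟨g, hg, c, hc, rfl⟩ := hp
      by_contra hn'
      refine hpair ⟨g⁻¹ r, hr.map (inv_mem hg), ?_, fun hm => hn' ?_⟩
      · have h := H.pres g hg (g⁻¹ r) a
        rw [show g (g⁻¹ r) = r from g.apply_symm_apply r] at h
        rw [← h]
        simpa [hc] using hpr
      · obtain ⟨t, ht⟩ := Submodule.mem_span_singleton.1 hm
        refine Submodule.mem_span_singleton.2 ⟨t * c⁻¹, ?_⟩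
        rw [smul_smul, mul_assoc, inv_mul_cancel₀ hc, mul_one, ← map_smul, ht]
        exact g.apply_symm_apply r
    have hT := H.no_tr hab hd4 hb hN hsel
    have hh := H.hom2_ovoid hab hd4 hb hN hT
    exact Or.inr (Or.inl (hbase (H.form_polar hab hT hh) fun c hc => H.singular_ovoid hab hd4 hb hN hT hh hc))

end CfsgLib.Geometry.SpTwoOver
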