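import Cfsg.Agent.Lib.Geometry.SpTwoOver.Basic
import Cfsg.Agent.Lib.Geometry.MaxSingular
import Cfsg.Agent.Lib.Geometry.OmegaMem

/-!
The two halves of an orthogonal group in characteristic two.
-/

set_option autoImplicit false
set_option linter.unusedSectionVars false

namespace CfsgLib.Geometry.SpTwoOver

open QuadraticMap

variable {F V : Type*} [Field F] [Finite F] [AddCommGroup V] [Module F V] [CharP F 2] [FiniteDimensional F V]
variable {Q : QuadraticForm F V}

/-- The distance of two maximal singular subspaces of a four-dimensional space. -/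
noncomputable def dist2 (U W : Submodule F V) : ℕ := 2 - Module.finrank F ↥(U ⊓ W)

theorem dist2_comm (U W : Submodule F V) : dist2 U W = dist2 W U := by rw [dist2, dist2, inf_comm]

theorem maxSing_map {g : V ≃ₗ[F] V} (hg : g ∈ orth Q) {U : Submodule F V} (hU : IsMaxSing Q 2 U) :
    IsMaxSing Q 2 (U.map g.toLinearMap) := by
  refine ⟨?_, ?_⟩
  · rw [← hU.1]
    exact (LinearEquiv.finrank_map_eq g U)
  · rintro _ ⟨u, hu, rfl⟩
    exact (mem_orth.1 hg u).trans (hU.2 u hu)

theorem dist2_map (g : V ≃ₗ[F] V) (U W : Submodule F V) :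
    dist2 (U.map g.toLinearMap) (W.map g.toLinearMap) = dist2 U W := by
  rw [dist2, dist2, ← Submodule.map_inf _ g.injective, LinearEquiv.finrank_map_eq g]

theorem dist2_triangle (hQ : (polarBilin Q).Nondegenerate) (hV : Module.finrank F V = 2 * 2)
    {U W X : Submodule F V} (hU : IsMaxSing Q 2 U) (hW : IsMaxSing Q 2 W) (hX : IsMaxSing Q 2 X) :
    (dist2 U X : ZMod 2) = dist2 U W + dist2 W X := by
  have h := maxSing_parity hQ hV hX _ U W hU hW rfl
  have h2 : ((dist2 U W + dist2 W X + dist2 U X : ℕ) : ZMod 2) = 0 := (ZMod.natCast_eq_zero_iff_even).2 h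
  push_cast at h2
  linear_combination h2 - (dist2 U W + dist2 W X : ZMod 2) * CharTwo.two_eq_zero (R := ZMod 2)

/-- The class change of an isometry. -/
noncomputable def par (U : Submodule F V) (g : V ≃ₗ[F] V) : ZMod 2 := dist2 U (U.map g.toLinearMap)

variable (hQ : (polarBilin Q).Nondegenerate) (hV : Module.finrank F V = 2 * 2) {U : Submodule F V}
  (hU : IsMaxSing Q 2 U)
include hQ hV hU

theorem par_one : par U (1 : V ≃ₗ[F] V) = 0 := by
  have h := dist2_triangle hQ hV hU hU hU
  have e : U.map (1 : V ≃ₗ[F] V).toLinearMap = U := Submodule.map_id U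
  rw [par, e]
  linear_combination -h

theorem par_mul {g k : V ≃ₗ[F] V} (hg : g ∈ orth Q) (hk : k ∈ orth Q) : par U (g * k) = par U g + par U k := by
  have e : U.map (g * k).toLinearMap = (U.map k.toLinearMap).map g.toLinearMap := Submodule.map_comp k.toLinearMap g.toLinearMap U
  rw [par, par, par, dist2_triangle hQ hV hU (maxSing_map hg hU) (e ▸ maxSing_map (mul_mem hg hk) hU), e, dist2_map]

theorem par_inv {g : V ≃ₗ[F] V} (hg : g ∈ orth Q) : par U g⁻¹ = par U g := by
  have h := par_mul hQ hV hU hg (inv_mem hg)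
  rw [mul_inv_cancel, par_one hQ hV hU] at h
  linear_combination -h - (par U g) * CharTwo.two_eq_zero (R := ZMod 2) + (0 : ZMod 2)

theorem par_of_fix {g : V ≃ₗ[F] V} (hg : g ∈ orth Q) {W : Submodule F V} (hW : IsMaxSing Q 2 W)
    (h : W.map g.toLinearMap = W) : par U g = 0 := by
  have hgU := maxSing_map hg hU
  rw [par, dist2_triangle hQ hV hU hW hgU]
  conv_lhs => enter [2]; rw [← h, dist2_map, dist2_comm]
  exact CharTwo.add_self_eq_zero _

theorem exists_maxSing_mem {e : V} (he : Q e = 0) : ∃ W, IsMaxSing Q 2 W ∧ e ∈ W := by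
  by_cases heU : e ∈ U
  · exact ⟨U, hU, heU⟩
  have he0 : e ≠ 0 := fun h => heU (h ▸ U.zero_mem)
  set P := U ⊓ LinearMap.ker ((polarBilin Q).flip e)
  refine ⟨P ⊔ Submodule.span F {e}, ⟨?_, ?_⟩, Submodule.mem_sup_right (Submodule.mem_span_singleton_self e)⟩
  · have hdisj : P ⊓ Submodule.span F {e} = ⊥ := by
      rw [eq_bot_iff]
      rintro x ⟨hx, hx'⟩
      obtain ⟨c, rfl⟩ := Submodule.mem_span_singleton.1 hx'
      by_contra h0
      have hc : c ≠ 0 := fun h => h0 (by simp [h])
      exact heU (by simpa [hc] using U.smul_mem c⁻¹ hx.1)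
    have h := Submodule.finrank_sup_add_finrank_inf_eq P (Submodule.span F {e})
    rw [hdisj, finrank_bot, finrank_span_singleton he0, add_zero] at h
    have h1 : Module.finrank F P = 1 := by
      obtain ⟨u, hu, hue⟩ : ∃ u ∈ U, polar Q u e ≠ 0 := by
        by_contra hc
        push Not at hc
        refine heU ?_
        rw [← polarPerp_eq_self hQ hV hU]
        exact mem_polarPerp.2 hc
      let φ : U →ₗ[F] F := ((polarBilin Q).flip e).comp U.subtype
      have hφ : LinearMap.range φ = ⊤ := by
        refine LinearMap.range_eq_top.2 fun c => ⟨(c / polar Q u e) • ⟨u, hu⟩, ?_⟩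
        simp [φ, hue]
      have h2 := LinearMap.finrank_range_add_finrank_ker φ
      rw [hφ, finrank_top, Module.finrank_self, hU.1] at h2
      have h3 : (LinearMap.ker φ).map U.subtype = P := by
        rw [show LinearMap.ker φ = (LinearMap.ker ((polarBilin Q).flip e)).comap U.subtype from LinearMap.ker_comp _ _,
          Submodule.map_comap_subtype]
      rw [← h3, Submodule.finrank_map_subtype_eq]
      omega
    omega
  · rintro _ hw
    obtain ⟨x, hx, y, hy, rfl⟩ := Submodule.mem_sup.1 hw
    obtain ⟨c, rfl⟩ := Submodule.mem_span_singleton.1 hy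
    have hxe : polar Q x e = 0 := hx.2
    rw [map_add', map_smul', he, hU.2 x hx.1, polar_smul_right', hxe]
    ring

theorem par_siegel (e w : V) (he : Q e = 0) (hw : polar Q e w = 0) : par U (siegel Q e w he hw) = 0 := by
  obtain ⟨W, hW, heW⟩ := exists_maxSing_mem hQ hV hU he
  refine par_of_fix hQ hV hU (siegel_mem_orth Q e w he hw) hW ?_
  refine Submodule.eq_of_le_of_finrank_eq ?_ (LinearEquiv.finrank_map_eq _ W)
  rintro _ ⟨x, hx, rfl⟩
  show siegel Q e w he hw x ∈ W
  rw [siegel_apply, polar_eq_zero_of_singular hW.2 hx heW, zero_smul, add_zero, mul_zero, zero_smul, sub_zero]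
  exact sub_mem hx (W.smul_mem _ heW)

theorem par_refl (d : V) (hd : Q d ≠ 0) : par U (refl Q d hd) = 1 := by
  have hdU : d ∉ U := fun h => hd (hU.2 d h)
  set P := U ⊓ LinearMap.ker ((polarBilin Q).flip d)
  have hI : U ⊓ U.map (refl Q d hd).toLinearMap = P := by
    refine le_antisymm ?_ ?_
    · rintro x ⟨hx, y, hy, rfl⟩
      refine ⟨hx, ?_⟩
      have hx' : refl Q d hd y ∈ U := hx
      show polar Q (refl Q d hd y) d = 0
      rw [refl_apply] at hx' ⊢
      have h0 : (Q d)⁻¹ * polar Q y d = 0 := by
        by_contra hne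
        refine hdU ((Submodule.smul_mem_iff U hne).1 ?_)
        simpa using U.sub_mem hy hx'
      rw [h0, zero_smul, sub_zero]
      simpa [inv_ne_zero hd] using h0
    · rintro x ⟨hx, hxd⟩
      exact ⟨hx, x, hx, refl_eq_self Q d hd hxd⟩
  have h1 : Module.finrank F P = 1 := by
    obtain ⟨u, hu, hue⟩ : ∃ u ∈ U, polar Q u d ≠ 0 := by
      by_contra hc
      push Not at hc
      refine hdU ?_
      rw [← polarPerp_eq_self hQ hV hU]
      exact mem_polarPerp.2 hc
    let φ : U →ₗ[F] F := ((polarBilin Q).flip d).comp U.subtype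
    have hφ : LinearMap.range φ = ⊤ := by
      refine LinearMap.range_eq_top.2 fun c => ⟨(c / polar Q u d) • ⟨u, hu⟩, ?_⟩
      simp [φ, hue]
    have h2 := LinearMap.finrank_range_add_finrank_ker φ
    rw [hφ, finrank_top, Module.finrank_self, hU.1] at h2
    have h3 : (LinearMap.ker φ).map U.subtype = P := by
      rw [show LinearMap.ker φ = (LinearMap.ker ((polarBilin Q).flip d)).comap U.subtype from LinearMap.ker_comp _ _,
        Submodule.map_comap_subtype]
    rw [← h3, Submodule.finrank_map_subtype_eq]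
    omega
  rw [par, dist2, hI, h1]
  rfl

/-- In dimension four the class change is the parity of the moved space. -/
theorem par_eq_dickson {g : V ≃ₗ[F] V} (hg : g ∈ orth Q) : par U g = dickson g := by
  induction hk : Module.finrank F (movSpace g) using Nat.strong_induction_on generalizing g with
  | _ k ih =>
  by_cases hns : ∃ a ∈ movSpace g, Q a ≠ 0
  · obtain ⟨a, ham, ha⟩ := hns
    have hg' := mul_mem hg (refl_mem_orth Q a ha)
    have h1 := finrank_movSpace_mul_refl hQ hg' ha (mul_refl_fix hg ha ham)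
    rw [mul_refl_refl] at h1
    have h2 := ih _ (by omega) hg' rfl
    rw [par_mul hQ hV hU hg (refl_mem_orth Q a ha), par_refl hQ hV hU, dickson_mul_refl hQ hg ha] at h2
    exact add_right_cancel h2
  push Not at hns
  have hle : Module.finrank F (movSpace g) ≤ 2 := by
    have h1 := finrank_polarPerp hQ (movSpace g)
    have h2 : movSpace g ≤ polarPerp Q (movSpace g) := fun w hw =>
      mem_polarPerp.2 fun u hu => polar_eq_zero_of_singular hns hu hw
    have := Submodule.finrank_mono h2
    omega
  have hfix : ∀ v ∈ polarPerp Q (movSpace g), g v = v := fun v hv =>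
    fixed_of_perp_mov hQ hg (fun u hu => by rw [polar_comm]; exact mem_polarPerp.1 hv u hu)
  rcases (by omega : Module.finrank F (movSpace g) = 0 ∨ Module.finrank F (movSpace g) = 1 ∨
    Module.finrank F (movSpace g) = 2) with h | h | h
  · have hg1 : g = 1 := LinearEquiv.ext fun v => by
      have := sub_mem_movSpace g v
      rw [Submodule.finrank_eq_zero.1 h, Submodule.mem_bot, sub_eq_zero] at this
      exact this.symm
    rw [hg1, par_one hQ hV hU, dickson_one]
  · -- a line of singular vectors is not a moved space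
    exfalso
    obtain ⟨d, hd⟩ := (movSpace g).exists_mem_ne_zero_of_ne_bot (fun e => by rw [e, finrank_bot] at h; omega)
    obtain ⟨v, -, hv⟩ := exists_polar hQ ⊥ (x := d) (by simpa using hd.2) 1
    have hmem := sub_mem_movSpace g v
    have hspan : Submodule.span F {d} = movSpace g := Submodule.eq_of_le_of_finrank_eq
      (by rw [Submodule.span_singleton_le_iff_mem]; exact hd.1) (by rw [finrank_span_singleton hd.2, h])
    obtain ⟨c, hc⟩ := Submodule.mem_span_singleton.1 (hspan ▸ hmem : v - g v ∈ Submodule.span F {d})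
    have hgv : g v = v - c • d := by rw [hc]; abel
    have hq := mem_orth.1 hg v
    rw [hgv, map_sub', map_smul', hns d hd.1, polar_smul_right', hv, mul_zero, add_zero, mul_one, sub_eq_self] at hq
    have hvP : v ∈ polarPerp Q (movSpace g) := by
      refine mem_polarPerp.2 fun u hu => ?_
      exact polar_mov_fix hg (v := v) (by rw [hgv, hq, zero_smul, sub_zero]) hu
    have h3 := mem_polarPerp.1 hvP d hd.1
    rw [polar_comm, hv] at h3
    exact one_ne_zero h3
  · have hW : IsMaxSing Q 2 (movSpace g) := ⟨h, hns⟩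
    have e := polarPerp_eq_self hQ hV hW
    rw [par_of_fix hQ hV hU hg hW (le_antisymm (by rintro _ ⟨x, hx, rfl⟩; exact (hfix x (e.symm ▸ hx)).symm ▸ hx)
      fun x hx => ⟨x, hx, hfix x (e.symm ▸ hx)⟩), dickson, h]
    rfl

end CfsgLib.Geometry.SpTwoOver
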