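import Cfsg.Agent.Lib.Geometry.SpTwoOver.Basic

/-!
The value of the radical at each direction, and the quadratic form of a pair of opposite points.
-/

set_option autoImplicit false
set_option linter.unusedSectionVars false

namespace CfsgLib.Geometry.SpTwoOver

open LinearMap (BilinForm)

variable {F V : Type*} [Field F] [AddCommGroup V] [Module F V] [CharP F 2]
variable (B : BilinForm F V) (L : Subgroup (V ≃ₗ[F] V))

open scoped Classical in
/-- The parameter of the radical element of direction `w` at `p`. -/
noncomputable def val (p w : V) : F := if h : ∃ k, El B L p w k then h.choose else 0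

/-- Orthogonal to both points of a pair. -/
def InW (a b w : V) : Prop := B w a = 0 ∧ B w b = 0

/-- Projection to the perp of a pair. -/
def proj (a b v : V) : V := v + B v b • a + B v a • b

variable {B L} {a b : V}

theorem InW.zero : InW B a b 0 := ⟨by simp, by simp⟩

theorem InW.add {w w' : V} (h : InW B a b w) (h' : InW B a b w') : InW B a b (w + w') :=
  ⟨by rw [map_add, LinearMap.add_apply, h.1, h'.1, add_zero], by rw [map_add, LinearMap.add_apply, h.2, h'.2, add_zero]⟩

theorem InW.smul {w : V} (h : InW B a b w) (s : F) : InW B a b (s • w) :=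
  ⟨by rw [map_smul, LinearMap.smul_apply, h.1, smul_zero], by rw [map_smul, LinearMap.smul_apply, h.2, smul_zero]⟩

theorem InW.symm {w : V} (h : InW B a b w) : InW B b a w := ⟨h.2, h.1⟩

theorem proj_symm (v : V) : proj B a b v = proj B b a v := by
  unfold proj; abel

theorem proj_decomp (v : V) : v = proj B a b v + B v b • a + B v a • b := by
  unfold proj
  linear_combination (norm := module) -(add_self F (B v b • a)) - (add_self F (B v a • b))

variable (H : Orb B L a) (hab : B a b = 1) (hb : On L a b)
include H

omit hab hb in
theorem Orb.B_self (v : V) : B v v = 0 := H.alt v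

include hab

omit hb in
theorem Orb.ba : B b a = 1 := by rw [H.B_symm, hab]

omit hb in
theorem Orb.proj_mem (v : V) : InW B a b (proj B a b v) := by
  constructor <;> simp [proj, H.alt a, H.alt b, hab, H.ba hab, CharTwo.add_self_eq_zero]

omit hb in
theorem Orb.proj_of_mem {w : V} (h : InW B a b w) : proj B a b w = w := by simp [proj, h.1, h.2]

omit hb in
theorem Orb.proj_left : proj B a b a = 0 := by
  simp [proj, H.alt a, hab, add_self F a]

omit hb in
theorem Orb.mem_span_of_inW {w : V} (h : InW B a b w) (hm : w ∈ Submodule.span F {a}) : w = 0 := by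
  obtain ⟨c, rfl⟩ := Submodule.mem_span_singleton.1 hm
  have := h.2
  rw [map_smul, LinearMap.smul_apply, hab, smul_eq_mul, mul_one] at this
  rw [this, zero_smul]

variable (hT : ∀ p, On L a p → ¬ Tr B L p)
include hT hb

omit hab hb in
theorem Orb.val_eq {p w : V} (hp : On L a p) (hw : B w p = 0) {k : F} (h : El B L p w k) : val B L p w = k := by
  have hex : ∃ k, El B L p w k := ⟨k, h⟩
  rw [val, dif_pos hex]
  by_contra hne
  refine hT p hp ⟨hex.choose + k, fun e => hne (CharTwo.add_eq_zero.1 e), ?_⟩
  have := hex.choose_spec.mul H.alt hw hw h
  rwa [H.alt w, add_zero, add_self F w] at this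

omit hab hb in
theorem Orb.el_val {p w : V} (hp : On L a p) (hw : B w p = 0) : El B L p w (val B L p w) := by
  obtain ⟨k, hk⟩ := (H.base hp).pt w hw
  rwa [H.val_eq hT hp hw hk]

omit hab hb in
theorem Orb.val_zero {p : V} (hp : On L a p) : val B L p 0 = 0 :=
  H.val_eq hT hp (by simp) ⟨1, one_mem L, fun x => by simp⟩

omit hab hb in
theorem Orb.val_add {p w w' : V} (hp : On L a p) (hw : B w p = 0) (hw' : B w' p = 0) :
    val B L p (w + w') = val B L p w + val B L p w' + B w w' :=
  H.val_eq hT hp (by rw [map_add, LinearMap.add_apply, hw, hw', add_zero])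
    ((H.el_val hT hp hw).mul H.alt hw hw' (H.el_val hT hp hw'))

omit hab hb in
theorem Orb.val_add_pt {p w : V} (hp : On L a p) (hw : B w p = 0) (s : F) : val B L p (w + s • p) = val B L p w :=
  H.val_eq hT hp (by rw [map_add, LinearMap.add_apply, hw, map_smul, LinearMap.smul_apply, H.alt p, smul_zero,
    add_zero]) ((H.el_val hT hp hw).add_pt s)

/-- The orbit of the opposite point under the radical. -/
theorem Orb.image {w : V} (hw : InW B a b w) : On L a (b + w + val B L a w • a) := by
  have := H.move hab (H.el_val hT (On.refl a) hw.1) hb
  rwa [H.B_symm b w, hw.2, zero_add] at this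

theorem Orb.image' {w : V} (hw : InW B a b w) : On L a (a + w + val B L b w • b) :=
  hb.trans ((H.base hb).image (H.ba hab) hb.symm (fun _ hp => hT _ (hb.trans hp)) hw.symm)

/-- The common homogeneous value. -/
def Hom2 (B : BilinForm F V) (L : Subgroup (V ≃ₗ[F] V)) (a b : V) : Prop :=
  (∀ w, InW B a b w → val B L b w = val B L a w) ∧
    ∀ w, InW B a b w → ∀ s : F, val B L a (s • w) = s * s * val B L a w

/-- The form of a pair with homogeneous common value. -/
noncomputable def Orb.form (hh : Hom2 B L a b) : QuadraticForm F V :=
  QuadraticMap.ofPolar (fun v => B v a * B v b + val B L a (proj B a b v))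
    (fun s v => by
      have e : proj B a b (s • v) = s • proj B a b v := by
        simp only [proj, map_smul, LinearMap.smul_apply, smul_eq_mul]; module
      simp only [e, hh.2 _ (H.proj_mem hab v), map_smul, LinearMap.smul_apply, smul_eq_mul]
      ring)
    (fun x x' y => by
      have e : ∀ x y : V, QuadraticMap.polar (fun v => B v a * B v b + val B L a (proj B a b v)) x y = B x y := by
        intro x y
        have e1 : proj B a b (x + y) = proj B a b x + proj B a b y := by
          simp only [proj, map_add, LinearMap.add_apply]; module
        simp only [QuadraticMap.polar, e1, H.val_add hT (On.refl a) (H.proj_mem hab x).1 (H.proj_mem hab y).1]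
        simp only [proj, map_add, map_smul, LinearMap.add_apply, LinearMap.smul_apply, smul_eq_mul, H.alt a, H.alt b,
          hab, H.ba hab, H.B_symm a y, H.B_symm b y]
        linear_combination (2 * B x a * B y b + 2 * B x b * B y a) * CharTwo.two_eq_zero (R := F)
      rw [e, e, e, map_add, LinearMap.add_apply])
    (fun s x y => by
      have e : ∀ x y : V, QuadraticMap.polar (fun v => B v a * B v b + val B L a (proj B a b v)) x y = B x y := by
        intro x y
        have e1 : proj B a b (x + y) = proj B a b x + proj B a b y := by
          simp only [proj, map_add, LinearMap.add_apply]; module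
        simp only [QuadraticMap.polar, e1, H.val_add hT (On.refl a) (H.proj_mem hab x).1 (H.proj_mem hab y).1]
        simp only [proj, map_add, map_smul, LinearMap.add_apply, LinearMap.smul_apply, smul_eq_mul, H.alt a, H.alt b,
          hab, H.ba hab, H.B_symm a y, H.B_symm b y]
        linear_combination (2 * B x a * B y b + 2 * B x b * B y a) * CharTwo.two_eq_zero (R := F)
      rw [e, e, map_smul, LinearMap.smul_apply])

omit hb in
theorem Orb.form_apply (hh : Hom2 B L a b) (v : V) :
    H.form hab hT hh v = B v a * B v b + val B L a (proj B a b v) := rfl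

omit hb in
theorem Orb.form_polar (hh : Hom2 B L a b) (x y : V) : QuadraticMap.polar (H.form hab hT hh) x y = B x y := by
  have e1 : proj B a b (x + y) = proj B a b x + proj B a b y := by
    simp only [proj, map_add, LinearMap.add_apply]; module
  simp only [QuadraticMap.polar, H.form_apply, e1,
    H.val_add hT (On.refl a) (H.proj_mem hab x).1 (H.proj_mem hab y).1]
  simp only [proj, map_add, map_smul, LinearMap.add_apply, LinearMap.smul_apply, smul_eq_mul, H.alt a, H.alt b,
    hab, H.ba hab, H.B_symm a y, H.B_symm b y]
  linear_combination (2 * B x a * B y b + 2 * B x b * B y a) * CharTwo.two_eq_zero (R := F)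

omit hb in
theorem Orb.form_left (hh : Hom2 B L a b) : H.form hab hT hh a = 0 := by
  rw [H.form_apply, H.proj_left hab, H.val_zero hT (On.refl a), H.alt a]; simp

omit hb in
theorem Orb.form_right (hh : Hom2 B L a b) : H.form hab hT hh b = 0 := by
  have e : proj B a b b = 0 := by simp [proj, H.alt b, H.ba hab, add_self F b]
  rw [H.form_apply hab hT, e, H.val_zero hT (On.refl a), H.alt b]; simp

end CfsgLib.Geometry.SpTwoOver
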