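import Cfsg.Agent.Lib.Geometry.SpTwoOver.Value

/-!
With perpendicular points in the orbit and no value along their lines, the orbit is singular for a form.
-/

set_option autoImplicit false
set_option linter.unusedSectionVars false

namespace CfsgLib.Geometry.SpTwoOver

open LinearMap (BilinForm)

variable {F V : Type*} [Field F] [AddCommGroup V] [Module F V] [CharP F 2]
variable {B : BilinForm F V} {L : Subgroup (V ≃ₗ[F] V)} {a b : V}

/-- No value along the line of two perpendicular orbit points. -/
def Flat (B : BilinForm F V) (L : Subgroup (V ≃ₗ[F] V)) (a : V) : Prop :=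
  ∀ p r, On L a p → On L a r → B r p = 0 → r ∉ Submodule.span F {p} → ∀ s : F, val B L p (s • r) = 0

theorem Flat.base {p : V} (hS : Flat B L a) (hp : On L a p) : Flat B L p :=
  fun x r hx hr => hS x r (hp.trans hx) (hp.trans hr)

variable (H : Orb B L a) (hab : B a b = 1) (hb : On L a b) (hT : ∀ p, On L a p → ¬ Tr B L p) (hS : Flat B L a)
include H hab hb hT hS

theorem Orb.zero_line {w : V} (hw : InW B a b w) (h0 : val B L a w = 0) (s : F) : val B L b (s • w) = 0 := by
  rcases eq_or_ne w 0 with rfl | hne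
  · rw [smul_zero, H.val_zero hT hb]
  have hr : On L a (b + w) := by simpa [h0] using H.image hab hb hT hw
  have hn : b + w ∉ Submodule.span F {b} := fun hm => hne <| by
    refine (H.base hb).mem_span_of_inW (H.ba hab) hw.symm ?_
    simpa using Submodule.sub_mem _ hm (Submodule.mem_span_singleton_self b)
  have := hS b (b + w) hb hr (by rw [map_add, LinearMap.add_apply, H.alt b, hw.2, add_zero]) hn s
  rwa [smul_add, add_comm, H.val_add_pt hT hb (by rw [map_smul, LinearMap.smul_apply, hw.2, smul_zero])] at this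

theorem Orb.zero_line' {w : V} (hw : InW B a b w) (h0 : val B L b w = 0) (s : F) : val B L a (s • w) = 0 :=
  (H.base hb).zero_line (H.ba hab) hb.symm (fun _ hp => hT _ (hb.trans hp)) (hS.base hb) hw.symm h0 s

theorem Orb.exists_zero {r : V} (hr : On L a r) (har : B r a = 0) (hn : r ∉ Submodule.span F {a}) :
    ∃ z, InW B a b z ∧ z ≠ 0 ∧ ∀ s : F, val B L a (s • z) = 0 := by
  have hd := proj_decomp (B := B) (a := a) (b := b) r
  rw [har, zero_smul, add_zero] at hd
  refine ⟨proj B a b r, H.proj_mem hab r, fun e => hn ?_, fun s => ?_⟩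
  · rw [hd, e, zero_add]
    exact Submodule.smul_mem _ _ (Submodule.mem_span_singleton_self a)
  · have h := hS a r (On.refl a) hr har hn s
    rwa [hd, smul_add, smul_smul, H.val_add_pt hT (On.refl a) ((H.proj_mem hab r).smul s).1] at h

theorem Orb.exists_partner' [FiniteDimensional F V] {z : V} (hz : InW B a b z) (hz0 : z ≠ 0) :
    ∃ x, InW B a b x ∧ B z x = 1 := by
  have hn : z ∉ Submodule.span F ({a, b} : Set V) := fun hm => by
    obtain ⟨s, t, rfl⟩ := Submodule.mem_span_pair.1 hm
    have h1 := hz.1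
    have h2 := hz.2
    simp [H.alt a, H.alt b, hab, H.ba hab] at h1 h2
    exact hz0 (by simp [h1, h2])
  obtain ⟨x, hx, hxz⟩ := exists_perp (σ := RingHom.id F) Function.surjective_id _ H.nd.1 _ hn 1
  exact ⟨x, ⟨hx a (Submodule.subset_span (by simp)), hx b (Submodule.subset_span (by simp))⟩,
    by rw [H.B_symm]; exact hxz⟩

theorem Orb.exists_zero_partner [FiniteDimensional F V] {z : V} (hz : InW B a b z) (hz0 : z ≠ 0)
    (hzl : ∀ s : F, val B L a (s • z) = 0) : ∃ y, InW B a b y ∧ B z y = 1 ∧ ∀ s : F, val B L a (s • y) = 0 := by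
  obtain ⟨x, hx, hzx⟩ := H.exists_partner' hab hb hT hS hz hz0
  refine ⟨x + val B L a x • z, hx.add (hz.smul _), by rw [map_add, hzx, map_smul, H.alt z, smul_zero, add_zero],
    fun s => H.zero_line' hab hb hT hS (hx.add (hz.smul _)) ?_ s⟩
  have h0 : val B L a (x + val B L a x • z) = 0 := by
    rw [H.val_add hT (On.refl a) hx.1 (hz.smul _).1, hzl, add_zero, map_smul, H.B_symm x z, hzx, smul_eq_mul, mul_one,
      CharTwo.add_self_eq_zero]
  simpa using H.zero_line hab hb hT hS (hx.add (hz.smul _)) h0 1

theorem Orb.hom2_of_zero [FiniteDimensional F V] {z : V} (hz : InW B a b z) (hz0 : z ≠ 0)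
    (hzl : ∀ s : F, val B L a (s • z) = 0) : Hom2 B L a b := by
  have key : ∀ x, InW B a b x → B z x ≠ 0 →
      val B L b x = val B L a x ∧ ∀ t : F, val B L a (t • x) = t * t * val B L a x := by
    intro x hx hzx
    set c := B z x
    set x₁ := c⁻¹ • x with hx₁
    have hx1 : InW B a b x₁ := hx.smul _
    have hzx1 : B z x₁ = 1 := by rw [hx₁, map_smul, smul_eq_mul, inv_mul_cancel₀ hzx]
    set d := val B L a x₁
    set y := x₁ + d • z with hy
    have hy' : InW B a b y := hx1.add (hz.smul _)
    have hy0 : val B L a y = 0 := by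
      rw [hy, H.val_add hT (On.refl a) hx1.1 (hz.smul _).1, hzl, add_zero, map_smul, H.B_symm x₁ z, hzx1,
        smul_eq_mul, mul_one, CharTwo.add_self_eq_zero]
    have hyb : ∀ s : F, val B L b (s • y) = 0 := H.zero_line hab hb hT hS hy' hy0
    have hyl : ∀ s : F, val B L a (s • y) = 0 := fun s =>
      H.zero_line' hab hb hT hS hy' (by simpa using hyb 1) s
    have hzb : ∀ s : F, val B L b (s • z) = 0 := H.zero_line hab hb hT hS hz (by simpa using hzl 1)
    have hyz : B y z = 1 := by
      rw [hy, H.B_symm, map_add, hzx1, map_smul, H.alt z, smul_zero, add_zero]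
    have he : ∀ t : F, t • x = (t * c) • y + (t * c * d) • z := fun t => by
      rw [hy, hx₁, smul_add, smul_smul, smul_smul, mul_assoc t c c⁻¹, mul_inv_cancel₀ hzx, mul_one, add_assoc,
        add_self F, add_zero]
    have hA : ∀ t : F, val B L a (t • x) = t * t * (c * c * d) := fun t => by
      rw [he, H.val_add hT (On.refl a) (hy'.smul _).1 (hz.smul _).1, hyl, hzl]
      simp only [map_smul, LinearMap.smul_apply, smul_eq_mul, hyz]; ring
    have hB : ∀ t : F, val B L b (t • x) = t * t * (c * c * d) := fun t => by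
      rw [he, H.val_add hT hb (hy'.smul _).2 (hz.smul _).2, hyb, hzb]
      simp only [map_smul, LinearMap.smul_apply, smul_eq_mul, hyz]; ring
    refine ⟨?_, fun t => ?_⟩
    · have h1 := hA 1; have h2 := hB 1
      rw [one_smul] at h1 h2
      rw [h1, h2]
    · have h1 := hA 1
      rw [one_smul, one_mul, one_mul] at h1
      rw [hA, h1]
  obtain ⟨x₀, hx₀, hzx₀⟩ := H.exists_partner' hab hb hT hS hz hz0
  have all : ∀ w, InW B a b w →
      val B L b w = val B L a w ∧ ∀ t : F, val B L a (t • w) = t * t * val B L a w := by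
    intro w hw
    by_cases h : B z w = 0
    swap
    · exact key w hw h
    obtain ⟨e1, f1⟩ := key (w + x₀) (hw.add hx₀) (by rw [map_add, h, hzx₀, zero_add]; exact one_ne_zero)
    obtain ⟨e2, f2⟩ := key x₀ hx₀ (by rw [hzx₀]; exact one_ne_zero)
    have hw' : w = (w + x₀) + x₀ := by rw [add_assoc, add_self F, add_zero]
    refine ⟨?_, fun t => ?_⟩
    · rw [hw', H.val_add hT hb (hw.add hx₀).2 hx₀.2, H.val_add hT (On.refl a) (hw.add hx₀).1 hx₀.1, e1, e2]
    · rw [hw', smul_add, H.val_add hT (On.refl a) ((hw.add hx₀).smul _).1 (hx₀.smul _).1,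
        H.val_add hT (On.refl a) (hw.add hx₀).1 hx₀.1, f1, f2, map_smul, map_smul, LinearMap.smul_apply,
        smul_eq_mul, smul_eq_mul]
      ring
  exact ⟨fun w hw => (all w hw).1, fun w hw => (all w hw).2⟩

theorem Orb.singular_of_zero [FiniteDimensional F V] (hh : Hom2 B L a b) {z : V} (hz : InW B a b z) (hz0 : z ≠ 0)
    (hzl : ∀ s : F, val B L a (s • z) = 0) {c : V} (hc : On L a c) : H.form hab hT hh c = 0 := by
  rw [H.form_apply hab hT]
  have hd := proj_decomp (B := B) (a := a) (b := b) c
  set v := proj B a b c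
  have hv : InW B a b v := H.proj_mem hab c
  by_cases hca : B c a = 0
  · rw [hca, zero_mul, zero_add]
    rw [hca, zero_smul, add_zero] at hd
    rcases eq_or_ne v 0 with h0 | h0
    · rw [h0, H.val_zero hT (On.refl a)]
    have hn : c ∉ Submodule.span F {a} := fun hm => h0 <| by
      refine H.mem_span_of_inW hab hv ?_
      have := Submodule.sub_mem _ hm (Submodule.smul_mem _ (B c b) (Submodule.mem_span_singleton_self a))
      rwa [show c - B c b • a = v from sub_eq_iff_eq_add.2 hd] at this
    have h := hS a c (On.refl a) hc hca hn 1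
    rwa [one_smul, hd, H.val_add_pt hT (On.refl a) hv.1] at h
  · set ν := B c a
    set μ := B c b
    set v₁ := ν⁻¹ • v
    have hv₁ : InW B a b v₁ := hv.smul _
    by_contra hne
    set δ := μ / ν + val B L a v₁ with hδ
    have hδ0 : δ ≠ 0 := fun e => hne <| by
      have h1 : val B L a v = ν * ν * val B L a v₁ := by
        rw [← hh.2 v₁ hv₁ ν, smul_inv_smul₀ hca]
      rw [h1, CharTwo.add_eq_zero.1 (show μ / ν + val B L a v₁ = 0 from e) |>.symm]
      field_simp
      linear_combination (ν * μ) * CharTwo.two_eq_zero (R := F)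
    obtain ⟨y, hy, hzy, hyl⟩ := H.exists_zero_partner hab hb hT hS hz hz0 hzl
    set w := z + δ • y
    have hw : InW B a b w := hz.add (hy.smul _)
    have hwv : val B L a w = δ := by
      rw [H.val_add hT (On.refl a) hz.1 (hy.smul _).1, hyl, map_smul, hzy, smul_eq_mul, mul_one]
      have := hzl 1
      rw [one_smul] at this
      rw [this]; ring
    have hc1 : On L a (ν⁻¹ • c) := hc.smul (inv_ne_zero hca)
    have hcc : ν⁻¹ • c = b + v₁ + (μ / ν) • a := by
      rw [hd, smul_add, smul_add, smul_smul, smul_smul, inv_mul_cancel₀ hca, one_smul, div_eq_inv_mul]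
      abel
    -- translate the point to the pair
    set u := v₁ + w
    have hu : InW B a b u := hv₁.add hw
    have hmv := H.move (b := ν⁻¹ • c) (w := u) (by rw [hcc, map_add, map_add, hab, H.B_symm a v₁, hv₁.1, map_smul,
      H.alt a, smul_zero, add_zero, add_zero]) (H.el_val hT (On.refl a) hu.1) hc1
    have hr : ν⁻¹ • c + u + (B (ν⁻¹ • c) u + val B L a u) • a = b + w := by
      have e1 : B (ν⁻¹ • c) u = B v₁ w := by
        simp [hcc, u, H.B_symm b v₁, hv₁.2, H.B_symm b w, hw.2, H.B_symm a v₁, hv₁.1, H.B_symm a w, hw.1, H.alt v₁]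
      rw [e1, H.val_add hT (On.refl a) hv₁.1 hw.1, hwv, hcc]
      linear_combination (norm := module)
        add_self F v₁ + add_self F ((B v₁ w) • a) + add_self F ((μ / ν) • a) + add_self F (val B L a v₁ • a)
    rw [hr] at hmv
    have hn : b + w ∉ Submodule.span F {b} := fun hm => by
      have h0 : w = 0 := (H.base hb).mem_span_of_inW (H.ba hab) hw.symm
        (by simpa using Submodule.sub_mem _ hm (Submodule.mem_span_singleton_self b))
      rw [h0, H.val_zero hT (On.refl a)] at hwv
      exact hδ0 hwv.symm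
    have h := hS b (b + w) hb hmv (by rw [map_add, LinearMap.add_apply, H.alt b, hw.2, add_zero]) hn 1
    rw [one_smul, add_comm, show w + b = w + (1 : F) • b by rw [one_smul], H.val_add_pt hT hb hw.2, hh.1 w hw, hwv] at h
    exact hδ0 h

end CfsgLib.Geometry.SpTwoOver
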